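import Groth.Agent.GrpBasic.Perfect
import Mathlib.RingTheory.Jacobson.Ring
import Mathlib.RingTheory.Flat.Basic

/-!
# Tensor products of reduced algebras over perfect fields
-/

universe u
open TensorProduct

namespace Groth.Agent.FinHopf

lemma isReduced_tensor_of_algClosed (K : Type u) [Field K] [IsAlgClosed K] (B C : Type u)
    [CommRing B] [Algebra K B] [Algebra.FiniteType K B] [IsReduced B]
    [CommRing C] [Algebra K C] [IsReduced C] : IsReduced (B ⊗[K] C) := by
  have := isJacobsonRing_of_finiteType (A := K) (B := B)
  let b := Module.Free.chooseBasis K C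
  constructor
  intro t ht
  apply (Algebra.TensorProduct.basis B b).repr.injective
  rw [map_zero]
  ext i
  rw [Finsupp.zero_apply, ← Ideal.mem_bot, ← (IsJacobsonRing.out' (⊥ : Ideal B)
    (Ideal.isRadical_iff_quotient_reduced _ |>.mpr
      (isReduced_of_injective _ (RingEquiv.quotientBot B).injective))), Ideal.jacobson, Submodule.mem_sInf]
  rintro m ⟨-, hm⟩
  let := Ideal.Quotient.field m
  have : Module.Finite K (B ⧸ m) := finite_of_finite_type_of_isJacobsonRing K (B ⧸ m)
  let e : K ≃ₐ[K] B ⧸ m := AlgEquiv.ofBijective (Algebra.ofId K _)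
    (IsAlgClosed.algebraMap_bijective_of_isIntegral (k := K) (K := B ⧸ m))
  let x : B →ₐ[K] K := e.symm.toAlgHom.comp (Ideal.Quotient.mkₐ K m)
  let φ : B ⊗[K] C →ₐ[K] C :=
    (Algebra.TensorProduct.lid K C).toAlgHom.comp (Algebra.TensorProduct.map x (AlgHom.id K C))
  have key : ∀ y, b.repr (φ y) i = x ((Algebra.TensorProduct.basis B b).repr y i) := by
    intro y
    induction y using TensorProduct.induction_on with
    | zero => simp
    | tmul a c =>
      have : φ (a ⊗ₜ[K] c) = x a • c := by simp [φ]
      rw [this, map_smul]
      simp [Algebra.TensorProduct.basis_repr_tmul, Algebra.smul_def, mul_comm]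
    | add y z hy hz => simp [hy, hz]
  have h := key t
  rw [(ht.map φ).eq_zero, map_zero, Finsupp.zero_apply] at h
  exact Ideal.Quotient.eq_zero_iff_mem.mp (e.symm.injective (h.symm.trans (map_zero _).symm))

lemma isReduced_tensor_of_perfect (k B C : Type u) [Field k] [PerfectField k] [CommRing B]
    [Algebra k B] [IsReduced B] [CommRing C] [Algebra k C] [IsReduced C] :
    IsReduced (C ⊗[k] B) := by
  apply IsReduced.tensorProduct_of_flat_of_forall_fg
  intro D hD
  have : Algebra.FiniteType k D := Subalgebra.fg_iff_finiteType _ |>.mp hD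
  have : IsReduced D := isReduced_of_injective D.val Subtype.val_injective
  let K := AlgebraicClosure k
  have hred : ∀ (X : Type u) [CommRing X] [Algebra k X] [IsReduced X], IsReduced (K ⊗[k] X) :=
    fun X _ _ _ => by
      have := GrpBasic.isReduced_tensor_algClosure k X
      exact isReduced_of_injective _ (Algebra.TensorProduct.comm k K X).injective
  have := hred D
  have := hred C
  have := isReduced_tensor_of_algClosed K (K ⊗[k] D) (K ⊗[k] C)
  have : IsReduced ((K ⊗[k] D) ⊗[k] C) :=
    isReduced_of_injective _ (Algebra.TensorProduct.cancelBaseChange k K K (K ⊗[k] D) C).symm.injective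
  have : IsReduced (D ⊗[k] C) := isReduced_of_injective
    (Algebra.TensorProduct.map (Algebra.TensorProduct.includeRight : D →ₐ[k] K ⊗[k] D) (AlgHom.id k C))
    (Module.Flat.rTensor_preserves_injective_linearMap _
      (Algebra.TensorProduct.includeRight_injective (algebraMap k K).injective))
  exact isReduced_of_injective _ (Algebra.TensorProduct.comm k C D).injective

end Groth.Agent.FinHopf
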