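import Groth.Agent.FinHopf.Deligne
import Mathlib.AlgebraicGeometry.Group.Affine
import Mathlib.AlgebraicGeometry.Morphisms.FlatRank
import Mathlib.AlgebraicGeometry.Morphisms.Flat
import Mathlib.CategoryTheory.Monoidal.Cartesian.Over
import Mathlib.CategoryTheory.Monoidal.Cartesian.CommMon_
import Mathlib.RingTheory.Finiteness.ModuleFinitePresentation

/-!
# Affine group schemes as spectra of Hopf algebras, and Deligne's theorem for schemes
-/

universe u
open CategoryTheory CategoryTheory.Limits MonoidalCategory CartesianMonoidalCategory MonObj GrpObj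
open AlgebraicGeometry TensorProduct Opposite

namespace Groth.Agent.FinHopf

/-- An affine group scheme is the spectrum of a Hopf algebra. -/
lemma exists_hopf {R : CommRingCat.{u}} (G : Over (Spec R)) [GrpObj G] [IsAffine G.left] :
    ∃ (A : CommRingCat.{u}) (_ : HopfAlgebra R A) (e : (Spec A).asOver (Spec R) ≅ G),
      IsMonHom e.hom := by
  obtain ⟨A, ⟨e⟩⟩ : (hopfSpec R).essImage (Grp.mk G) := essImage_hopfSpec.mpr ‹_›
  refine ⟨CommRingCat.of A.unop, inferInstance, (Grp.forget _).mapIso e, ?_⟩
  exact e.hom.hom.isMonHom_hom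

lemma pow_eq_one_of_affine' {R : CommRingCat.{u}} (G : Over (Spec R)) [GrpObj G]
    [IsFinite G.hom] [Flat G.hom] [LocallyOfFinitePresentation G.hom] (r : ℕ)
    (hr : ∀ s, Scheme.Hom.finrank G.hom s = r)
    (H : ∀ (A : CommRingCat.{u}) [HopfAlgebra R A] [Module.Finite R A] [Module.Projective R A]
      (e : (Spec A).asOver (Spec R) ≅ G) [IsMonHom e.hom],
      (∀ p : PrimeSpectrum R, Module.rankAtStalk A p = r) →
        WithConv.toConv (AlgHom.id R A) ^ r = 1) : (𝟙 G : G ⟶ G) ^ r = 1 := by
  have : IsAffine G.left := isAffine_of_isAffineHom G.hom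
  obtain ⟨A, _, e, he⟩ := exists_hopf G
  let f := Spec.map (CommRingCat.ofHom (algebraMap R A))
  have hf : f = e.hom.left ≫ G.hom := (Over.w e.hom).symm
  have : IsIso e.hom.left := inferInstanceAs (IsIso ((Over.forget _).map e.hom))
  have hfin : (algebraMap R A).Finite := by
    have h0 : IsFinite (e.hom.left ≫ G.hom) := inferInstance
    have : IsFinite f := by rw [hf]; exact h0
    exact (IsFinite.SpecMap_iff _).mp this
  have hflat : (algebraMap R A).Flat := by
    have h0 : Flat (e.hom.left ≫ G.hom) := inferInstance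
    have : Flat f := by rw [hf]; exact h0
    exact (HasRingHomProperty.Spec_iff (P := @Flat)).mp this
  have hfp : (algebraMap R A).FinitePresentation := by
    have h0 : LocallyOfFinitePresentation (e.hom.left ≫ G.hom) := inferInstance
    have : LocallyOfFinitePresentation f := by rw [hf]; exact h0
    exact (HasRingHomProperty.Spec_iff (P := @LocallyOfFinitePresentation)).mp this
  rw [RingHom.finite_algebraMap] at hfin
  rw [RingHom.flat_algebraMap_iff] at hflat
  rw [RingHom.finitePresentation_algebraMap] at hfp
  have : Module.FinitePresentation R A :=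
    (Module.FinitePresentation.iff_finitePresentation_of_finite (R := R) (S := A)).mpr hfp
  have : Module.Projective R A := Module.Flat.projective_of_finitePresentation
  have hn : ∀ p : PrimeSpectrum R, Module.rankAtStalk A p = r := fun p => by
    rw [← Scheme.Hom.finrank_SpecMap_algebraMap R A p, ← hr p]
    show Scheme.Hom.finrank f p = _
    rw [hf]
    exact congrFun (Scheme.Hom.finrank_comp_left_of_isIso e.hom.left G.hom) p
  have h := congr_arg (Spec.mapMulEquiv (R := R) (S := A) (T := A)) (H A e hn)
  rw [map_pow, map_one] at h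
  have hid : Spec.mapMulEquiv (R := R) (S := A) (T := A) (WithConv.toConv (AlgHom.id R A)) =
      𝟙 ((Spec A).asOver (Spec R)) := by
    ext1
    exact Spec.map_id A
  rw [hid] at h
  rw [← cancel_epi e.hom, MonObj.comp_pow, Category.comp_id, MonObj.comp_one,
    ← Category.id_comp e.hom, ← MonObj.pow_comp, h, MonObj.one_comp]


lemma pow_eq_one_of_affine {R : CommRingCat.{u}} (G : Over (Spec R)) [GrpObj G] [IsCommMonObj G]
    [IsFinite G.hom] [Flat G.hom] [LocallyOfFinitePresentation G.hom] (r : ℕ)
    (hr : ∀ s, Scheme.Hom.finrank G.hom s = r) : (𝟙 G : G ⟶ G) ^ r = 1 := by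
  refine pow_eq_one_of_affine' G r hr fun A _ _ _ e _ hn => ?_
  -- commutativity of the points
  have hcomm : Coalgebra.IsCocomm R A := by
    refine ⟨LinearMap.ext fun a => ?_⟩
    let i₁ : WithConv (A →ₐ[R] A ⊗[R] A) := WithConv.toConv Algebra.TensorProduct.includeLeft
    let i₂ : WithConv (A →ₐ[R] A ⊗[R] A) := WithConv.toConv Algebra.TensorProduct.includeRight
    have h : i₂ * i₁ = i₁ * i₂ := by
      apply (Spec.mapMulEquiv (R := R) (S := A) (T := A ⊗[R] A)).injective
      rw [map_mul, map_mul, ← cancel_mono e.hom, MonObj.mul_comp, MonObj.mul_comp, mul_comm]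
    have h' := congr(($h).ofConv a)
    simp only [AlgHom.convMul_def, i₁, i₂, WithConv.ofConv_toConv, AlgHom.comp_apply,
      Bialgebra.comulAlgHom_apply] at h'
    show TensorProduct.comm R A A (Coalgebra.comul a) = Coalgebra.comul a
    have e₁ : ∀ t : A ⊗[R] A, TensorProduct.comm R A A t = Algebra.TensorProduct.lmul' R
        (Algebra.TensorProduct.map (Algebra.TensorProduct.includeRight : A →ₐ[R] A ⊗[R] A)
          Algebra.TensorProduct.includeLeft t) := fun t => by
      induction t using TensorProduct.induction_on with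
      | zero => simp
      | tmul x y => simp
      | add x y hx hy => simp only [map_add, hx, hy]
    have e₂ : ∀ t : A ⊗[R] A, Algebra.TensorProduct.lmul' R
        (Algebra.TensorProduct.map (Algebra.TensorProduct.includeLeft : A →ₐ[R] A ⊗[R] A)
          Algebra.TensorProduct.includeRight t) = t := fun t => by
      induction t using TensorProduct.induction_on with
      | zero => simp
      | tmul x y => simp
      | add x y hx hy => simp only [map_add, hx, hy]
    exact (e₁ _).trans (h'.trans (e₂ _))
  exact id_pow_rank_eq_one r hn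

lemma pullback_fst_comp_pow {S : Scheme.{u}} (G : Over S) [GrpObj G] (r : ℕ)
    {R : CommRingCat.{u}} (j : Spec R ⟶ S)
    (h1 : letI : GrpObj ((Over.pullback j).obj G) := (Over.pullback j).grpObjObj
      (𝟙 ((Over.pullback j).obj G) : _ ⟶ (Over.pullback j).obj G) ^ r = 1) :
    pullback.fst G.hom j ≫ ((𝟙 G : G ⟶ G) ^ r).left = pullback.fst G.hom j ≫ (1 : G ⟶ G).left := by
  let F := Over.pullback j
  let H := F.obj G
  letI : GrpObj H := F.grpObjObj
  have h2 : F.map ((𝟙 G : G ⟶ G) ^ r) = F.map 1 := by
    rw [show F.map ((𝟙 G : G ⟶ G) ^ r) = (F.map (𝟙 G)) ^ r from map_pow F.homMonoidHom _ r,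
      F.map_id, h1]
    exact F.map_one.symm
  have h3 := congr(($h2).left ≫ pullback.fst G.hom j)
  simp only [F, Over.pullback_map_left] at h3
  erw [pullback.lift_fst, pullback.lift_fst] at h3
  exact h3

/-- A commutative finite locally free group scheme of constant rank is killed by its rank. -/
theorem pow_rank_eq_one {S : Scheme.{u}} (G : Over S) [GrpObj G] [IsCommMonObj G] [IsFinite G.hom]
    [Flat G.hom] [LocallyOfFinitePresentation G.hom] (r : ℕ)
    (hr : ∀ s : S, Scheme.Hom.finrank G.hom s = r) : (𝟙 G : G ⟶ G) ^ r = 1 := by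
  ext1
  refine Scheme.Cover.hom_ext (S.affineOpenCover.openCover.pullback₁ G.hom) _ _ fun i => ?_
  let j := S.affineOpenCover.f i
  refine pullback_fst_comp_pow G r j ?_
  let F := Over.pullback j
  let H := F.obj G
  letI : GrpObj H := F.grpObjObj
  have : IsCommMonObj H := inferInstance
  have : IsFinite H.hom := inferInstanceAs (IsFinite (pullback.snd G.hom j))
  have : Flat H.hom := inferInstanceAs (Flat (pullback.snd G.hom j))
  have : LocallyOfFinitePresentation H.hom := inferInstanceAs (LocallyOfFinitePresentation (pullback.snd G.hom j))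
  have h1 : (𝟙 H : H ⟶ H) ^ r = 1 := pow_eq_one_of_affine H r fun s =>
    (Scheme.Hom.finrank_pullback_snd G.hom j s).trans (hr _)
  exact h1

end Groth.Agent.FinHopf
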