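import Groth.Agent.FinHopf.Frobenius
import Mathlib.RingTheory.Idempotents
import Mathlib.RingTheory.Ideal.IdempotentFG
import Mathlib.RingTheory.Etale.Field
import Mathlib.RingTheory.Etale.Descent
import Mathlib.RingTheory.Etale.Pi
import Mathlib.FieldTheory.IsAlgClosed.AlgebraicClosure
import Mathlib.GroupTheory.OrderOfElement
import Mathlib.LinearAlgebra.Dual.Lemmas
import Mathlib.RingTheory.Jacobson.Artinian

/-!
# A finite group scheme over a field is killed by its order
-/

universe u v w
open TensorProduct Coalgebra WithConv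

namespace Groth.Agent.FinHopf

variable {k : Type u} [Field k]

section Conv
variable {A B R R' : Type*} [CommRing A] [Bialgebra k A] [CommRing B] [Bialgebra k B]
  [CommRing R] [Algebra k R] [CommRing R'] [Algebra k R']

/-- Push points forward along an algebra map. -/
def pointsMap (h : R →ₐ[k] R') : WithConv (A →ₐ[k] R) →* WithConv (A →ₐ[k] R') where
  toFun f := toConv (h.comp f.ofConv)
  map_one' := by
    refine WithConv.ext (AlgHom.ext fun a => ?_)
    simp [AlgHom.convOne_def]
  map_mul' f g := by
    refine WithConv.ext ?_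
    simp [AlgHom.comp_convMul_distrib]

/-- Restrict points along a bialgebra map. -/
def pointsRes (q : A →ₐc[k] B) : WithConv (B →ₐ[k] R) →* WithConv (A →ₐ[k] R) where
  toFun f := toConv (f.ofConv.comp (q : A →ₐ[k] B))
  map_one' := by
    refine WithConv.ext (AlgHom.ext fun a => ?_)
    simp [AlgHom.convOne_def]
  map_mul' f g := by
    refine WithConv.ext ?_
    simp [AlgHom.convMul_comp_bialgHom_distrib]

end Conv

variable {A : Type v} [CommRing A] [HopfAlgebra k A] [Module.Finite k A]

/-- An infinitesimal finite group is killed by its order. -/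
lemma id_pow_finrank_of_infinitesimal (hA : IsInfinitesimal k A) :
    (toConv (AlgHom.id k A)) ^ Module.finrank k A = 1 := by
  apply WithConv.ofConv_injective
  apply AlgHom.toLinearMap_injective
  apply WithConv.toConv_injective
  rw [AlgHom.toLinearMap_convPow, AlgHom.toLinearMap_convOne]
  set E : WithConv (A →ₗ[k] A) := toConv (AlgHom.id k A).toLinearMap
  have hmem : ∀ n (c : A), ((E - 1) ^ n) c ∈ aug k A ^ n := by
    intro n
    induction n with
    | zero => simp [Ideal.one_eq_top]
    | succ n ih =>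
      intro c
      rw [pow_succ, pow_succ, (ℛ k c).convMul_apply]
      refine Ideal.sum_mem _ fun i _ => Ideal.mul_mem_mul (ih _) ?_
      simpa [E, LinearMap.convOne_apply] using sub_counit_mem (k := k) ((ℛ k c).right i)
  have h0 : (E - 1) ^ Module.finrank k A = 0 := by
    refine WithConv.ext (LinearMap.ext fun c => ?_)
    have h := hmem (Module.finrank k A) c
    rw [aug_pow_finrank hA] at h
    exact h
  rcases CharP.exists (R := k) with ⟨p, hp⟩
  rcases CharP.char_is_prime_or_zero k p with hpr | rfl
  · have := Fact.mk hpr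
    obtain ⟨d, hd⟩ := exists_finrank_eq_pow p hA
    rw [hd] at h0 ⊢
    have : Nontrivial A := nontrivial_of_hopf k A
    have : CharP (WithConv (A →ₗ[k] A)) p := by
      constructor
      intro n
      rw [← CharP.cast_eq_zero_iff k p n, ← map_natCast (algebraMap k (WithConv (A →ₗ[k] A)))]
      refine ⟨fun h => ?_, fun h => by rw [h, map_zero]⟩
      have h1 := congr(counit (R := k) ($h (1 : A)))
      simpa [-map_natCast, LinearMap.convAlgebraMap_apply, Bialgebra.counit_algebraMap] using h1
    have : ExpChar (WithConv (A →ₗ[k] A)) p := ExpChar.prime hpr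
    have h := sub_pow_expChar_pow_of_commute (p := p) (n := d) (x := E) (y := 1) (Commute.one_right _)
    rw [h0, one_pow, eq_comm, sub_eq_zero] at h
    exact h
  · have : CharZero k := CharP.charP_to_charZero k
    have hb := aug_eq_bot_of_charZero hA
    have hE : E = 1 := by
      refine WithConv.ext (LinearMap.ext fun c => ?_)
      have : c - algebraMap k A (counit (R := k) c) ∈ (⊥ : Ideal A) := hb ▸ sub_counit_mem c
      exact sub_eq_zero.mp this
    rw [hE, one_pow]

variable (k A) in
/-- The identity component: an idempotent cutting out an infinitesimal Hopf quotient. -/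
lemma exists_component :
    ∃ e : A, IsIdempotentElem e ∧ e ∈ aug k A ∧ (Ideal.span {e}).IsHopfIdeal k ∧
      ∀ x ∈ aug k A, IsNilpotent (Ideal.Quotient.mk (Ideal.span {e}) x) := by
  have : IsArtinianRing A := isArtinian_of_tower k inferInstance
  obtain ⟨m, hm⟩ := IsArtinian.monotone_stabilizes (R := A) (M := A)
    ⟨fun n => OrderDual.toDual (aug k A ^ n), fun a b h => Ideal.pow_le_pow_right h⟩
  have hst : ∀ j, m ≤ j → aug k A ^ j = aug k A ^ m := fun j hj => (hm j hj).symm
  have hid : IsIdempotentElem (aug k A ^ (m + 1)) := by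
    rw [IsIdempotentElem, ← pow_add, hst _ (by omega), hst (m + 1) (by omega)]
  obtain ⟨e, he, hJ⟩ := (Ideal.isIdempotentElem_iff_of_fg _ (IsNoetherian.noetherian _)).mp hid
  have heI : e ∈ aug k A := by
    have : e ∈ aug k A ^ (m + 1) := by rw [hJ]; exact Submodule.mem_span_singleton_self e
    exact Ideal.pow_le_self (by omega) this
  have hnil : ∀ x ∈ aug k A, IsNilpotent (Ideal.Quotient.mk (Ideal.span {e}) x) := fun x hx =>
    ⟨m + 1, by rw [← map_pow, Ideal.Quotient.eq_zero_iff_mem, Ideal.span]; exact hJ ▸ Ideal.pow_mem_pow hx _⟩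
  have kill : ∀ {R : Type v} [CommRing R] (φ : A →+* R), IsNilpotent (φ e) → φ e = 0 := by
    intro R _ φ hφ
    exact (he.map φ).eq_zero_of_isNilpotent hφ
  let J := Ideal.span ({e} : Set A)
  let εq : (A ⧸ J) →ₐ[k] k := Ideal.Quotient.liftₐ J (Bialgebra.counitAlgHom k A)
    fun a ha => (Ideal.span_le.mpr (by simpa using heI) : J ≤ aug k A) ha
  have hB : ∀ b : A ⧸ J, IsNilpotent (b - algebraMap k _ (εq b)) := by
    intro b
    obtain ⟨a, rfl⟩ := Ideal.Quotient.mk_surjective b
    rw [← Ideal.Quotient.mk_algebraMap, ← map_sub]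
    exact hnil _ (sub_counit_mem a)
  let ε₂ : (A ⧸ J) ⊗[k] (A ⧸ J) →ₐ[k] k :=
    (Algebra.TensorProduct.lid k k).toAlgHom.comp (Algebra.TensorProduct.map εq εq)
  have hBB : ∀ t : (A ⧸ J) ⊗[k] (A ⧸ J), IsNilpotent (t - algebraMap k _ (ε₂ t)) := by
    intro t
    induction t using TensorProduct.induction_on with
    | zero => simp
    | tmul x y =>
      have : x ⊗ₜ[k] y - algebraMap k _ (ε₂ (x ⊗ₜ y)) =
          (x - algebraMap k _ (εq x)) ⊗ₜ[k] y + algebraMap k (A ⧸ J) (εq x) ⊗ₜ[k] (y - algebraMap k _ (εq y)) := by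
        rw [TensorProduct.sub_tmul, TensorProduct.tmul_sub]
        simp only [ε₂, AlgHom.comp_apply, Algebra.TensorProduct.map_tmul, AlgEquiv.coe_toAlgHom,
          Algebra.TensorProduct.lid_tmul, smul_eq_mul, map_mul,
          Algebra.TensorProduct.algebraMap_apply]
        rw [show algebraMap k (A ⧸ J) (εq x) ⊗ₜ[k] algebraMap k (A ⧸ J) (εq y) =
          (algebraMap k (A ⧸ J) (εq x) * algebraMap k (A ⧸ J) (εq y)) ⊗ₜ[k] (1 : A ⧸ J) by
            rw [Algebra.algebraMap_eq_smul_one (εq y), TensorProduct.tmul_smul,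
              TensorProduct.smul_tmul', mul_smul_comm, mul_one]]
        rw [Algebra.TensorProduct.tmul_mul_tmul, one_mul]
        abel
      rw [this]
      refine (Commute.all _ _).isNilpotent_add ?_ ?_
      · obtain ⟨n, hn⟩ := hB x
        exact ⟨n + 1, by simp [Algebra.TensorProduct.tmul_pow, pow_succ, hn]⟩
      · obtain ⟨n, hn⟩ := hB y
        exact ⟨n + 1, by simp [Algebra.TensorProduct.tmul_pow, pow_succ, hn]⟩
    | add x y hx hy =>
      rw [map_add, map_add, add_sub_add_comm]
      exact (Commute.all _ _).isNilpotent_add hx hy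
  let Δq : A →ₐ[k] (A ⧸ J) ⊗[k] (A ⧸ J) :=
    (Algebra.TensorProduct.map (Ideal.Quotient.mkₐ k J) (Ideal.Quotient.mkₐ k J)).comp
      (Bialgebra.comulAlgHom k A)
  have hΔe : Δq e = 0 := by
    refine kill Δq.toRingHom ?_
    have h := hBB (Δq e)
    have hε : ε₂.comp Δq = Bialgebra.counitAlgHom k A := by
      ext a
      have hh : ∀ t : A ⊗[k] A, ε₂ (Algebra.TensorProduct.map (Ideal.Quotient.mkₐ k J)
          (Ideal.Quotient.mkₐ k J) t) =
          counit (R := k) (TensorProduct.lid k A (counit.rTensor A t)) := by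
        intro t
        induction t using TensorProduct.induction_on with
        | zero => simp
        | tmul u v => simp [ε₂, εq, J] <;> rfl
        | add u v hu hv => simp [hu, hv]
      refine (hh _).trans ?_
      simp
    have : ε₂ (Δq e) = 0 := by
      rw [← AlgHom.comp_apply, hε]; exact heI
    rwa [this, map_zero, sub_zero] at h
  have hSe : Ideal.Quotient.mk J (HopfAlgebra.antipode k e) = 0 := by
    refine kill ((Ideal.Quotient.mk J).comp (HopfAlgebra.antipodeAlgHom k A).toRingHom) ?_
    refine hnil _ ?_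
    show counit (R := k) (HopfAlgebra.antipode k e) = 0
    rw [HopfAlgebra.counit_antipode]; exact heI
  have hco : (J.restrictScalars k).IsCoideal := by
    refine ⟨fun x hx => (Ideal.span_le.mpr (by simpa using heI) : J ≤ aug k A) hx, fun x hx => ?_⟩
    obtain ⟨c, rfl⟩ := Ideal.mem_span_singleton.mp hx
    show Δq (e * c) = 0
    rw [map_mul, hΔe, zero_mul]
  refine ⟨e, he, heI, { toIsCoideal := hco, antipode_mem := ?_ }, hnil⟩
  intro x hx
  obtain ⟨c, rfl⟩ := Ideal.mem_span_singleton.mp hx
  rw [← Ideal.Quotient.eq_zero_iff_mem, HopfAlgebra.antipode_mul_distrib, map_mul, hSe, zero_mul]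

/-- Over an algebraically closed field: identity component, points, and the order. -/
theorem exists_decomposition [IsAlgClosed k] :
    ∃ (e : A) (_ : (Ideal.span {e}).IsHopfIdeal k) (g : ℕ),
      IsIdempotentElem e ∧ e ∈ aug k A ∧ IsInfinitesimal k (A ⧸ Ideal.span {e}) ∧
      (toConv (AlgHom.id k A)) ^ (g * Module.finrank k (A ⧸ Ideal.span {e})) = 1 ∧
      ∃ Φ : A →ₐ[k] (Fin g → A ⧸ Ideal.span {e}), Function.Bijective Φ := by
  classical
  have : IsArtinianRing A := isArtinian_of_tower k inferInstance
  obtain ⟨e, he, heI, hHopf, hnil⟩ := exists_component k A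
  have hinf : IsInfinitesimal k (A ⧸ Ideal.span {e}) := by
    intro b hb
    obtain ⟨a, rfl⟩ := Ideal.Quotient.mk_surjective b
    exact hnil a hb
  have hpt : ∀ (m : Ideal A) [m.IsMaximal], ∃ g : A →ₐ[k] k, ∀ a, a ∈ m ↔ g a = 0 := by
    intro m hm
    let := Ideal.Quotient.field m
    let φ := (AlgEquiv.ofBijective (Algebra.ofId k (A ⧸ m))
      (IsAlgClosed.algebraMap_bijective_of_isIntegral (k := k) (K := A ⧸ m))).symm
    exact ⟨φ.toAlgHom.comp (Ideal.Quotient.mkₐ k m), fun a => by
      simp [Ideal.Quotient.eq_zero_iff_mem]⟩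
  have hnilp : ∀ a : A, (∀ g : A →ₐ[k] k, g a = 0) → IsNilpotent a := by
    intro a ha
    refine nilpotent_iff_mem_prime.mpr fun q hq => ?_
    have : q.IsMaximal := IsArtinianRing.isMaximal_of_isPrime q
    obtain ⟨g, hg⟩ := hpt q
    exact (hg a).mpr (ha g)
  -- translations
  let ι : k →ₐ[k] A := Algebra.ofId k A
  let τ (g : WithConv (A →ₐ[k] k)) : A →ₐ[k] A :=
    (pointsMap ι g * toConv (AlgHom.id k A)).ofConv
  have hpost : ∀ (h : A →ₐ[k] k) g, toConv (h.comp (τ g)) = g * toConv h := by
    intro h g
    show pointsMap h (pointsMap ι g * toConv (AlgHom.id k A)) = _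
    rw [map_mul]
    refine congrArg₂ (· * ·) ?_ rfl
    refine WithConv.ext (AlgHom.ext fun a => ?_)
    exact h.commutes _
  have hτ : ∀ g g', (τ g).comp (τ g') = τ (g' * g) := by
    intro g g'
    apply WithConv.toConv_injective
    show pointsMap (τ g) (pointsMap ι g' * toConv (AlgHom.id k A)) = _
    rw [map_mul]
    have h1 : pointsMap (τ g) (pointsMap ι g') = pointsMap ι g' :=
      WithConv.ext (AlgHom.ext fun a => (τ g).commutes _)
    have h2 : pointsMap (τ g) (toConv (AlgHom.id k A)) = pointsMap ι g * toConv (AlgHom.id k A) := rfl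
    rw [h1, h2, ← mul_assoc, ← map_mul]
  have hτ1 : τ 1 = AlgHom.id k A := by simp [τ]
  let f (g : WithConv (A →ₐ[k] k)) : A := τ g⁻¹ (1 - e)
  have hone : ∀ h : A →ₐ[k] k, h (1 - e) = 1 → toConv h = 1 := by
    intro h hh
    have h0 : h e = 0 := by simpa using hh
    refine WithConv.ext (AlgHom.ext fun a => ?_)
    have h2 : IsNilpotent (h (a - algebraMap k A (counit (R := k) a))) := by
      obtain ⟨n, hn⟩ := hnil _ (sub_counit_mem (k := k) a)
      rw [← map_pow, Ideal.Quotient.eq_zero_iff_mem, Ideal.mem_span_singleton] at hn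
      obtain ⟨c, hc⟩ := hn
      exact ⟨n, by rw [← map_pow, hc, map_mul, h0, zero_mul]⟩
    simpa [sub_eq_zero] using h2.eq_zero
  have hf : ∀ g (h : A →ₐ[k] k), h (f g) = if toConv h = g then 1 else 0 := by
    intro g h
    show (toConv (h.comp (τ g⁻¹))).ofConv (1 - e) = _
    rw [hpost]
    split_ifs with hg
    · subst hg
      rw [inv_mul_cancel]
      show Bialgebra.counitAlgHom k A (1 - e) = 1
      simp [mem_aug.mp heI]
    · rcases IsIdempotentElem.iff_eq_zero_or_one.mp (he.one_sub.map (g⁻¹ * toConv h).ofConv) with h0 | h1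
      · exact h0
      · exfalso; apply hg
        exact (inv_mul_eq_one.mp (hone _ h1)).symm
  have hinjf : Function.Injective f := by
    intro g g' hgg
    have := hf g' g.ofConv
    rw [← hgg, hf g g.ofConv] at this
    simpa [eq_comm] using this
  have horth : OrthogonalIdempotents f := by
    refine ⟨fun g => he.one_sub.map _, fun g g' hgg => ?_⟩
    refine ((he.one_sub.map (τ g⁻¹)).mul (he.one_sub.map (τ g'⁻¹))).eq_zero_of_isNilpotent
      (hnilp _ fun h => ?_)
    rw [map_mul]
    show h (f g) * h (f g') = 0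
    rw [hf, hf]
    split_ifs with h1 h2 <;> simp
    exact hgg (h1.symm.trans h2)
  have hli : LinearIndependent k f := by
    rw [linearIndependent_iff']
    intro s c hc g hg
    have := congr(g.ofConv $hc)
    simpa [map_sum, hf, Finset.sum_ite_eq', hg] using this
  have : Finite (WithConv (A →ₐ[k] k)) := hli.finite
  let : Fintype (WithConv (A →ₐ[k] k)) := Fintype.ofFinite _
  have hcomp : CompleteOrthogonalIdempotents f := by
    refine ⟨horth, ?_⟩
    have hidem : IsIdempotentElem (∑ g, f g) := horth.isIdempotentElem_sum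
    refine (sub_eq_zero.mp (hidem.one_sub.eq_zero_of_isNilpotent (hnilp _ fun h => ?_))).symm
    simp [map_sum, hf]
  let v := Fintype.equivFin (WithConv (A →ₐ[k] k))
  let q := Ideal.Quotient.mkₐ k (Ideal.span ({e} : Set A))
  let Φ : A →ₐ[k] (Fin (Fintype.card (WithConv (A →ₐ[k] k))) → A ⧸ Ideal.span {e}) :=
    AlgHom.pi fun i => q.comp (τ (v.symm i))
  have hker : ∀ g a, q (τ g a) = 0 ↔ a ∈ Ideal.span {1 - f g} := by
    intro g a
    have hinv : (τ g⁻¹).comp (τ g) = AlgHom.id k A := by rw [hτ, mul_inv_cancel, hτ1]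
    have hinv' : (τ g).comp (τ g⁻¹) = AlgHom.id k A := by rw [hτ, inv_mul_cancel, hτ1]
    have he' : 1 - f g = τ g⁻¹ e := by simp [f]
    simp only [q, Ideal.Quotient.mkₐ_eq_mk, Ideal.Quotient.eq_zero_iff_mem, Ideal.mem_span_singleton, he']
    constructor
    · intro h
      have := map_dvd (τ g⁻¹) h
      rwa [← AlgHom.comp_apply, hinv] at this
    · intro h
      have := map_dvd (τ g) h
      rwa [← AlgHom.comp_apply, hinv'] at this
  have hbij : Function.Bijective Φ := by
    constructor
    · rw [injective_iff_map_eq_zero]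
      intro a ha
      refine hcomp.bijective_pi.1 ?_
      rw [map_zero]
      funext g
      show Ideal.Quotient.mk _ a = 0
      rw [Ideal.Quotient.eq_zero_iff_mem, ← hker]
      simpa [Φ] using congr_fun ha (v g)
    · intro c
      choose c' hc' using fun g : WithConv (A →ₐ[k] k) =>
        (Ideal.Quotient.mk_surjective (c (v g)))
      obtain ⟨a, ha⟩ := hcomp.bijective_pi.2 (fun g => Ideal.Quotient.mk _ (τ g⁻¹ (c' g)))
      refine ⟨a, funext fun i => ?_⟩
      have h1 := congr_fun ha (v.symm i)
      rw [RingHom.pi_apply, Ideal.Quotient.eq, ← hker, map_sub, map_sub, sub_eq_zero] at h1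
      show q (τ (v.symm i) a) = c i
      rw [h1, ← AlgHom.comp_apply (τ (v.symm i)), hτ, inv_mul_cancel, hτ1]
      simpa using! hc' (v.symm i)
  refine ⟨e, hHopf, _, he, heI, hinf, ?_, Φ, hbij⟩
  -- the `card`-th power is infinitesimal
  have := hHopf
  rw [pow_mul]
  set φ := (toConv (AlgHom.id k A)) ^ Fintype.card (WithConv (A →ₐ[k] k)) with hφdef
  have hφnil : ∀ x ∈ aug k A, IsNilpotent (φ.ofConv x) := by
    intro x hx
    refine hnilp _ fun g => ?_
    have h1 : pointsMap g φ = 1 := by
      rw [hφdef, map_pow]; exact pow_card_eq_one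
    show (pointsMap g φ).ofConv x = 0
    rw [h1]
    show algebraMap k k (counit (R := k) x) = 0
    rw [mem_aug.mp hx, map_zero]
  have hφe : φ.ofConv e = 0 := (he.map φ.ofConv).eq_zero_of_isNilpotent (hφnil e heI)
  let ψ : WithConv ((A ⧸ Ideal.span {e}) →ₐ[k] A) :=
    toConv (Ideal.Quotient.liftₐ _ φ.ofConv fun a ha => by
      obtain ⟨c, rfl⟩ := Ideal.mem_span_singleton.mp ha
      rw [map_mul, hφe, zero_mul])
  have hres : pointsRes (Bialgebra.Quotient.mkBialgHom (Ideal.span {e})) ψ = φ :=
    WithConv.ext (AlgHom.ext fun a => rfl)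
  have hψ : ψ = pointsMap ψ.ofConv (toConv (AlgHom.id k (A ⧸ Ideal.span {e}))) := rfl
  rw [← hres, ← map_pow, hψ, ← map_pow, id_pow_finrank_of_infinitesimal hinf, map_one, map_one]

lemma finrank_eq_of_decomposition {B : Type v} [CommRing B] [Algebra k B] [Module.Finite k B] {g : ℕ}
    (Φ : A →ₐ[k] (Fin g → B)) (hΦ : Function.Bijective Φ) :
    Module.finrank k A = g * Module.finrank k B := by
  rw [(LinearEquiv.ofBijective Φ.toLinearMap hΦ).finrank_eq, Module.finrank_pi_fintype]
  simp

/-- Restriction of points of a base change. -/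
noncomputable def pointsBaseChange (K : Type u) [Field K] [Algebra k K] {R : Type w} [CommRing R]
    [Algebra K R] [Algebra k R] [IsScalarTower k K R] :
    WithConv (K ⊗[k] A →ₐ[K] R) →* WithConv (A →ₐ[k] R) where
  toFun f := toConv ((f.ofConv.restrictScalars k).comp Algebra.TensorProduct.includeRight)
  map_one' := by
    refine WithConv.ext (AlgHom.ext fun a => ?_)
    simp [AlgHom.convOne_def, Algebra.algebraMap_eq_smul_one, IsScalarTower.smul_assoc]
  map_mul' f g := by
    refine WithConv.ext (AlgHom.ext fun a => ?_)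
    simp only [AlgHom.comp_apply, AlgHom.restrictScalars_apply,
      Algebra.TensorProduct.includeRight_apply]
    change (f * g) ((1 : K) ⊗ₜ[k] a) = (toConv ((f.ofConv.restrictScalars k).comp
      Algebra.TensorProduct.includeRight) * toConv ((g.ofConv.restrictScalars k).comp
      Algebra.TensorProduct.includeRight)) a
    rw [AlgHom.convMul_apply, AlgHom.convMul_apply, TensorProduct.comul_tmul]
    generalize comul (R := k) a = t
    induction t using TensorProduct.induction_on with
    | zero => simp
    | tmul x y => simp [TensorProduct.AlgebraTensorModule.tensorTensorTensorComm_tmul]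
    | add x y hx hy => simp only [tmul_add, map_add, hx, hy]

variable (k A)

/-- A finite group scheme over a field is killed by its order. -/
theorem id_pow_finrank : (toConv (AlgHom.id k A)) ^ Module.finrank k A = 1 := by
  let K := AlgebraicClosure k
  obtain ⟨e, hH, g, -, -, -, hpow, Φ, hΦ⟩ := exists_decomposition (k := K) (A := K ⊗[k] A)
  rw [← finrank_eq_of_decomposition Φ hΦ, Module.finrank_baseChange] at hpow
  have h := congr_arg (pointsBaseChange (A := A) K (R := K ⊗[k] A)) hpow
  rw [map_pow, map_one] at h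
  have h2 : pointsBaseChange (A := A) K (R := K ⊗[k] A) (toConv (AlgHom.id K (K ⊗[k] A))) =
      pointsMap Algebra.TensorProduct.includeRight (toConv (AlgHom.id k A)) := rfl
  rw [h2, ← map_pow, ← (pointsMap (A := A) (Algebra.TensorProduct.includeRight :
    A →ₐ[k] K ⊗[k] A)).map_one] at h
  refine WithConv.ext (AlgHom.ext fun a => ?_)
  exact Algebra.TensorProduct.includeRight_injective (algebraMap k K).injective
    congr($h a)

/-- A finite group scheme of order invertible in the field is étale. -/
theorem etale_of_finrank_ne_zero (h : (Module.finrank k A : k) ≠ 0) : Algebra.Etale k A := by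
  let K := AlgebraicClosure k
  obtain ⟨e, hH, g, -, -, hinf, -, Φ, hΦ⟩ := exists_decomposition (k := K) (A := K ⊗[k] A)
  have hN : (Module.finrank K (K ⊗[k] A) : K) ≠ 0 := by
    rw [Module.finrank_baseChange, ← map_natCast (algebraMap k K)]
    exact (map_ne_zero _).mpr h
  rw [finrank_eq_of_decomposition Φ hΦ, Nat.cast_mul] at hN
  have hN0 := right_ne_zero_of_mul hN
  have haug : aug K ((K ⊗[k] A) ⧸ Ideal.span {e}) = ⊥ := by
    rcases CharP.exists (R := K) with ⟨p, hp⟩
    rcases CharP.char_is_prime_or_zero K p with hpr | rfl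
    · have := Fact.mk hpr
      obtain ⟨d, hd⟩ := exists_finrank_eq_pow p hinf
      have := aug_pow_finrank hinf
      rcases Nat.eq_zero_or_pos d with rfl | hd0
      · rw [hd, pow_zero, pow_one] at this; exact this
      · exfalso; apply hN0
        rw [hd, Nat.cast_pow, CharP.cast_eq_zero, zero_pow hd0.ne']
    · have : CharZero K := CharP.charP_to_charZero K
      exact aug_eq_bot_of_charZero hinf
  have hb : Function.Bijective (algebraMap K ((K ⊗[k] A) ⧸ Ideal.span {e})) := by
    have := nontrivial_of_hopf K ((K ⊗[k] A) ⧸ Ideal.span {e})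
    refine ⟨(algebraMap K _).injective, fun x => ⟨counit (R := K) x, ?_⟩⟩
    have : x - algebraMap K _ (counit (R := K) x) ∈ (⊥ : Ideal _) := haug ▸ sub_counit_mem x
    exact (sub_eq_zero.mp this).symm
  let E : (K ⊗[k] A) ≃ₐ[K] (Fin g → K) :=
    (AlgEquiv.ofBijective Φ hΦ).trans
      (AlgEquiv.piCongrRight fun _ => (AlgEquiv.ofBijective (Algebra.ofId K _) hb).symm)
  have : Algebra.Etale K (K ⊗[k] A) := Algebra.Etale.of_equiv E.symm
  exact Algebra.Etale.of_etale_tensorProduct_of_faithfullyFlat K

end Groth.Agent.FinHopf
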