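import Groth.Agent.FinHopf.Power

/-!
A finite commutative group scheme killed by the `p^n`-th Frobenius is killed by `p^n`.
-/

universe u v
open TensorProduct Coalgebra WithConv

namespace Groth.Agent.FinHopf

variable {k : Type u} [Field k] {A : Type v} [CommRing A] [HopfAlgebra k A] [Module.Finite k A]
  [Coalgebra.IsCocomm k A]

theorem id_pow_eq_one_of_frob (p n : ℕ) [Fact p.Prime] [CharP k p]
    (h : ∀ a : A, a ^ (p ^ n) = algebraMap k A (counit (R := k) a ^ (p ^ n))) :
    (toConv (AlgHom.id k A)) ^ (p ^ n) = 1 := by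
  classical
  apply WithConv.ofConv_injective
  apply AlgHom.toLinearMap_injective
  apply WithConv.toConv_injective
  rw [AlgHom.toLinearMap_convPow, AlgHom.toLinearMap_convOne]
  set E : WithConv (A →ₗ[k] A) := toConv (AlgHom.id k A).toLinearMap
  have : Nontrivial A := nontrivial_of_hopf k A
  have : CharP (WithConv (A →ₗ[k] A)) p := by
    constructor
    intro n
    rw [← CharP.cast_eq_zero_iff k p n, ← map_natCast (algebraMap k (WithConv (A →ₗ[k] A)))]
    refine ⟨fun h => ?_, fun h => by rw [h, map_zero]⟩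
    have h1 := congr(counit (R := k) ($h (1 : A)))
    simpa [-map_natCast, LinearMap.convAlgebraMap_apply, Bialgebra.counit_algebraMap] using h1
  have : ExpChar (WithConv (A →ₗ[k] A)) p := ExpChar.prime Fact.out
  let ρ : A → WithConv (A →ₗ[k] A) := fun a => toConv ((counit (R := k) (A := A)).smulRight a)
  have hmul : ∀ (f : WithConv (A →ₗ[k] A)) (a c : A), (f * ρ a) c = f c * a := by
    intro f a c
    rw [(ℛ k c).convMul_apply]
    calc ∑ i ∈ (ℛ k c).index, f ((ℛ k c).left i) * ρ a ((ℛ k c).right i)
        = f (∑ i ∈ (ℛ k c).index, counit (R := k) ((ℛ k c).right i) • (ℛ k c).left i) * a := by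
          rw [map_sum, Finset.sum_mul]
          refine Finset.sum_congr rfl fun i _ => ?_
          simp [ρ]
      _ = f c * a := by rw [show ∑ i ∈ (ℛ k c).index, counit (R := k) ((ℛ k c).right i) • (ℛ k c).left i = c by
          simpa only [map_sum, TensorProduct.lift.tmul, LinearMap.flip_apply, LinearMap.lsmul_apply, one_smul]
            using congr(TensorProduct.lift (LinearMap.lsmul k A).flip $(sum_tmul_counit_eq (R := k) (ℛ k c)))]
  have hone : ρ 1 = 1 := WithConv.ext (LinearMap.ext fun c => by
    simp [ρ, LinearMap.convOne_apply, Algebra.algebraMap_eq_smul_one])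
  have hρ : ∀ a b : A, ρ (a * b) = ρ a * ρ b := fun a b => WithConv.ext (LinearMap.ext fun c => by
    refine Eq.trans ?_ (hmul (ρ a) b c).symm
    simp [ρ, smul_mul_assoc])
  have hpow : ∀ (a : A) (m : ℕ), ρ (a ^ m) = ρ a ^ m := by
    intro a m
    induction m with
    | zero => rw [pow_zero, pow_zero, hone]
    | succ m ih => rw [pow_succ, pow_succ, hρ, ih]
  have halg : ∀ r : k, ρ (algebraMap k A r) = algebraMap k (WithConv (A →ₗ[k] A)) r := fun r =>
    WithConv.ext (LinearMap.ext fun c => by
      simp [ρ, LinearMap.convAlgebraMap_apply, Algebra.smul_def, mul_comm])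
  let b := Module.finBasis k A
  let u : Fin (Module.finrank k A) → WithConv (A →ₗ[k] A) := fun i => toConv ((b.coord i).smulRight 1)
  have hE : E = ∑ i, u i * ρ (b i) := by
    refine WithConv.ext (LinearMap.ext fun c => ?_)
    rw [WithConv.ofConv_sum, LinearMap.sum_apply, Finset.sum_congr rfl fun i _ => hmul (u i) (b i) c]
    simp [E, u, b.sum_repr]
  have h1 : ∑ i, u i * ρ (algebraMap k A (counit (R := k) (b i))) = 1 := by
    refine WithConv.ext (LinearMap.ext fun c => ?_)
    rw [WithConv.ofConv_sum, LinearMap.sum_apply, Finset.sum_congr rfl fun i _ => hmul (u i) _ c]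
    conv_rhs => rw [← b.sum_repr c, map_sum]
    refine Finset.sum_congr rfl fun i _ => ?_
    simp [u, LinearMap.convOne_apply, Algebra.smul_def]
  rw [hE, sum_pow_char_pow, ← one_pow (M := WithConv (A →ₗ[k] A)) (p ^ n), ← h1, sum_pow_char_pow]
  refine Finset.sum_congr rfl fun i _ => ?_
  rw [mul_pow, mul_pow, ← hpow, ← hpow, h, ← map_pow (algebraMap k A)]

end Groth.Agent.FinHopf
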