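import Mathlib.RingTheory.HopfAlgebra.Convolution
import Mathlib.RingTheory.HopfAlgebra.TensorProduct
import Mathlib.RingTheory.Norm.Basic
import Mathlib.RingTheory.LocalRing.Module
import Mathlib.RingTheory.LocalProperties.Exactness
import Mathlib.RingTheory.Spectrum.Prime.FreeLocus

/-!
# A commutative finite locally free group scheme is killed by its order

Points with values in the base act by translation on the algebra of `R`-linear endomorphisms of the
coordinate ring under convolution; comparing norms of the universal point gives the statement.
-/

universe u v w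
open TensorProduct Coalgebra WithConv

namespace Groth.Agent.FinHopf

variable {R : Type u} [CommRing R] {A : Type v} [CommRing A]

/-- Restrict a point of a base change to the original algebra. -/
noncomputable def basePoints [Bialgebra R A] (S : Type*) [CommRing S] [Algebra R S] {B : Type*}
    [CommRing B] [Algebra S B] [Algebra R B] [IsScalarTower R S B] :
    WithConv (S ⊗[R] A →ₐ[S] B) →* WithConv (A →ₐ[R] B) where
  toFun f := toConv ((f.ofConv.restrictScalars R).comp Algebra.TensorProduct.includeRight)
  map_one' := by
    refine WithConv.ext (AlgHom.ext fun a => ?_)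
    simp [AlgHom.convOne_def, Algebra.algebraMap_eq_smul_one, IsScalarTower.smul_assoc]
  map_mul' f g := by
    refine WithConv.ext (AlgHom.ext fun a => ?_)
    simp only [AlgHom.comp_apply, AlgHom.restrictScalars_apply,
      Algebra.TensorProduct.includeRight_apply]
    change (f * g) ((1 : S) ⊗ₜ[R] a) = (toConv ((f.ofConv.restrictScalars R).comp
      Algebra.TensorProduct.includeRight) * toConv ((g.ofConv.restrictScalars R).comp
      Algebra.TensorProduct.includeRight)) a
    rw [AlgHom.convMul_apply, AlgHom.convMul_apply, TensorProduct.comul_tmul]
    generalize comul (R := R) a = t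
    induction t using TensorProduct.induction_on with
    | zero => simp
    | tmul x y => simp [TensorProduct.AlgebraTensorModule.tensorTensorTensorComm_tmul]
    | add x y hx hy => simp only [tmul_add, map_add, hx, hy]

lemma basePoints_lift [Bialgebra R A] (S : Type*) [CommRing S] [Algebra R S] {B : Type*}
    [CommRing B] [Algebra S B] [Algebra R B] [IsScalarTower R S B] (g : A →ₐ[R] B) :
    basePoints S (toConv (Algebra.TensorProduct.lift (Algebra.ofId S B) g fun _ _ => .all _ _)) =
      toConv g :=
  WithConv.ext (AlgHom.ext fun a => by simp [basePoints])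

variable [HopfAlgebra R A] [Coalgebra.IsCocomm R A]

/-- Scalars of the convolution algebra of endomorphisms. -/
noncomputable def convScalar : WithConv (A →ₗ[R] R) →+* WithConv (A →ₗ[R] A) where
  toFun d := toConv ((Algebra.linearMap R A) ∘ₗ d.ofConv)
  map_one' := by
    refine WithConv.ext (LinearMap.ext fun a => ?_)
    simp [LinearMap.convOne_def]
  map_mul' f g := by
    refine WithConv.ext ?_
    exact LinearMap.algHom_comp_convMul_distrib (Algebra.ofId R A) f g
  map_zero' := by refine WithConv.ext (LinearMap.ext fun a => ?_); simp
  map_add' f g := by refine WithConv.ext (LinearMap.ext fun a => ?_); simp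

/-- Post-composition with an algebra endomorphism of the coordinate ring. -/
noncomputable def convPost (t : A →ₐ[R] A) : WithConv (A →ₗ[R] A) →+* WithConv (A →ₗ[R] A) where
  toFun d := toConv (t.toLinearMap ∘ₗ d.ofConv)
  map_one' := by
    refine WithConv.ext (LinearMap.ext fun a => ?_)
    simp [LinearMap.convOne_def]
  map_mul' f g := by
    refine WithConv.ext ?_
    simpa using LinearMap.algHom_comp_convMul_distrib t f g
  map_zero' := by refine WithConv.ext (LinearMap.ext fun a => ?_); simp
  map_add' f g := by refine WithConv.ext (LinearMap.ext fun a => ?_); simp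

/-- Deligne's argument, for points with values in the base and a free coordinate ring. -/
theorem point_pow_finrank_eq_one [Module.Free R A] [Module.Finite R A] (g : A →ₐ[R] R) :
    toConv g ^ Module.finrank R A = 1 := by
  classical
  nontriviality R
  let D := WithConv (A →ₗ[R] R)
  let E := WithConv (A →ₗ[R] A)
  letI : Algebra D E := (convScalar (R := R) (A := A)).toAlgebra
  let b := Module.Free.chooseBasis R A
  have hsm : ∀ (d : D) (f : E) i, (b.coord i ∘ₗ (d • f).ofConv) =
      (d * toConv (b.coord i ∘ₗ f.ofConv) : D).ofConv := by
    intro d f i
    refine LinearMap.ext fun a => ?_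
    show b.coord i (LinearMap.mul' R A (TensorProduct.map (convScalar d).ofConv f.ofConv (comul a))) =
      LinearMap.mul' R R (TensorProduct.map d.ofConv (b.coord i ∘ₗ f.ofConv) (comul a))
    generalize comul (R := R) a = t
    induction t using TensorProduct.induction_on with
    | zero => simp
    | tmul x y => simp [convScalar, ← Algebra.smul_def]
    | add x y hx hy => simp only [map_add, hx, hy]
  let bE : Module.Basis (Module.Free.ChooseBasisIndex R A) D E := Module.Basis.ofEquivFun
    { toFun := fun f i => toConv (b.coord i ∘ₗ f.ofConv)
      invFun := fun c => toConv (∑ i, (c i).ofConv.smulRight (b i))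
      map_add' := fun f g => by
        funext i
        refine WithConv.ext (LinearMap.ext fun a => ?_)
        show b.coord i (f.ofConv a + g.ofConv a) = _
        rw [map_add]
        rfl
      map_smul' := fun d f => by
        funext i
        exact WithConv.ext (hsm d f i)
      left_inv := fun f => by
        refine WithConv.ext (LinearMap.ext fun a => ?_)
        simp [b.sum_repr]
      right_inv := fun c => by
        funext i
        refine WithConv.ext (LinearMap.ext fun a => ?_)
        simp [Finsupp.single_apply] }
  let γ : D := toConv g.toLinearMap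
  let u : E := toConv LinearMap.id
  -- translations by the point and by its inverse
  let G : WithConv (A →ₐ[R] A) := toConv ((Algebra.ofId R A).comp g)
  let t : A →ₐ[R] A := (G * toConv (AlgHom.id R A)).ofConv
  let g' : A →ₐ[R] R := g.comp (HopfAlgebra.antipodeAlgHom R A)
  have hg' : toConv g' * toConv g = 1 := inv_mul_cancel (toConv g)
  have hg : toConv g * toConv g' = 1 := mul_inv_cancel (toConv g)
  let t' : A →ₐ[R] A := (toConv ((Algebra.ofId R A).comp g') * toConv (AlgHom.id R A)).ofConv
  have htt : ∀ (a b : A →ₐ[R] R), toConv a * toConv b = 1 →
      ((toConv ((Algebra.ofId R A).comp a) * toConv (AlgHom.id R A)).ofConv).comp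
        ((toConv ((Algebra.ofId R A).comp b) * toConv (AlgHom.id R A)).ofConv) = AlgHom.id R A := by
    intro a b hab
    rw [AlgHom.comp_convMul_distrib, ← AlgHom.comp_assoc]
    simp only [ofConv_toConv, toConv_ofConv, AlgHom.comp_id]
    rw [show ((toConv ((Algebra.ofId R A).comp a) * toConv (AlgHom.id R A)).ofConv).comp
      (Algebra.ofId R A) = Algebra.ofId R A from Subsingleton.elim _ _, ← mul_assoc]
    have : toConv ((Algebra.ofId R A).comp b) * toConv ((Algebra.ofId R A).comp a) =
        (1 : WithConv (A →ₐ[R] A)) := by
      rw [mul_comm] at hab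
      refine WithConv.ext ?_
      have := congr_arg (fun z => (Algebra.ofId R A).comp (WithConv.ofConv z)) hab
      simp only [AlgHom.comp_convMul_distrib, ofConv_toConv] at this
      rw [this]
      refine AlgHom.ext fun a => ?_
      simp [AlgHom.convOne_def]
    rw [this, one_mul]
  have h1 : t.comp t' = AlgHom.id R A := htt g g' hg
  have h2 : t'.comp t = AlgHom.id R A := htt g' g hg'
  let σ : E ≃ₐ[D] E :=
    { toFun := convPost t
      invFun := convPost t'
      left_inv := fun f => WithConv.ext (LinearMap.ext fun a => by
        exact congr($h2 (f.ofConv a)))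
      right_inv := fun f => WithConv.ext (LinearMap.ext fun a => by
        exact congr($h1 (f.ofConv a)))
      map_mul' := map_mul _
      map_add' := map_add _
      commutes' := fun d => WithConv.ext (LinearMap.ext fun a => t.commutes (d.ofConv a)) }
  have hσu : σ u = algebraMap D E γ * u := by
    refine WithConv.ext ?_
    show t.toLinearMap ∘ₗ LinearMap.id = _
    rw [LinearMap.comp_id]
    rfl
  have hu : IsUnit u := ⟨⟨u, toConv (HopfAlgebra.antipode R), LinearMap.id_mul_antipode,
    LinearMap.antipode_mul_id⟩, rfl⟩
  have hN := Algebra.norm_eq_of_algEquiv σ u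
  rw [hσu, map_mul, Algebra.norm_algebraMap_of_basis bE] at hN
  have hpow : γ ^ Fintype.card (Module.Free.ChooseBasisIndex R A) = 1 :=
    IsUnit.mul_right_cancel (hu.map (Algebra.norm D)) (hN.trans (one_mul _).symm)
  rw [Module.finrank_eq_card_chooseBasisIndex]
  refine WithConv.ext (AlgHom.toLinearMap_injective ?_)
  have key : ∀ n, (toConv g ^ n).ofConv.toLinearMap = (γ ^ n).ofConv := by
    intro n
    induction n with
    | zero => rw [pow_zero, pow_zero]; rfl
    | succ n ih =>
      rw [pow_succ, pow_succ, ← toConv_ofConv (γ ^ n), ← ih]
      rfl
  rw [key, hpow]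
  rfl

/-- Over a local base, every point of a commutative finite free group scheme is killed by its rank. -/
theorem point_pow_eq_one_of_free [Module.Free R A] [Module.Finite R A] {B : Type w} [CommRing B]
    [Algebra R B] (g : A →ₐ[R] B) : toConv g ^ Module.finrank R A = 1 := by
  nontriviality B
  have := RingHom.domain_nontrivial (algebraMap R B)
  rw [← basePoints_lift B g, ← map_pow, ← Module.finrank_baseChange (S := R) (R := B),
    point_pow_finrank_eq_one, map_one]

/-- A commutative finite locally free group scheme of constant rank is killed by its rank. -/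
theorem id_pow_rank_eq_one [Module.Finite R A] [Module.Projective R A] (n : ℕ)
    (hn : ∀ p : PrimeSpectrum R, Module.rankAtStalk A p = n) :
    toConv (AlgHom.id R A) ^ n = 1 := by
  refine WithConv.ext (AlgHom.ext fun a => ?_)
  refine Module.eq_of_localization_maximal (fun P _ => Localization.AtPrime P ⊗[R] A)
    (fun P _ => TensorProduct.mk R (Localization.AtPrime P) A 1) _ _ fun P hP => ?_
  let S := Localization.AtPrime P
  have : Module.Free S (S ⊗[R] A) := Module.free_of_flat_of_isLocalRing
  have hr : Module.finrank S (S ⊗[R] A) = n :=
    (Module.rankAtStalk_eq_finrank_tensorProduct ⟨P, hP.isPrime⟩).symm.trans (hn _)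
  have hS := point_pow_eq_one_of_free (R := S) (A := S ⊗[R] A) (AlgHom.id S (S ⊗[R] A))
  rw [hr] at hS
  let inc : WithConv (A →ₐ[R] A) →* WithConv (A →ₐ[R] S ⊗[R] A) :=
    { toFun := fun φ => toConv ((Algebra.TensorProduct.includeRight :
        A →ₐ[R] S ⊗[R] A).comp φ.ofConv)
      map_one' := by
        refine WithConv.ext (AlgHom.ext fun a => ?_)
        simp [AlgHom.convOne_def, Algebra.algebraMap_eq_smul_one, Algebra.TensorProduct.one_def]
      map_mul' := fun φ ψ => by
        exact WithConv.ext (by simp [AlgHom.comp_convMul_distrib]) }
  have h2 : inc (toConv (AlgHom.id R A) ^ n) = inc 1 := by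
    rw [map_pow, show inc (toConv (AlgHom.id R A)) =
      basePoints S (toConv (AlgHom.id S (S ⊗[R] A))) from rfl, ← map_pow, hS, map_one, map_one]
  exact congr(($h2).ofConv a)

end Groth.Agent.FinHopf
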