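import Mathlib.RingTheory.HopfAlgebra.Quotient
import Mathlib.RingTheory.HopfAlgebra.TensorProduct
import Mathlib.RingTheory.Flat.Basic
import Mathlib.LinearAlgebra.Basis.VectorSpace
import Mathlib.RingTheory.Flat.Localization

/-!
# The Hopf algebra structure on a sub-Hopf-algebra over a field
-/

universe u v w
open TensorProduct Coalgebra

namespace Groth.Agent.FinHopf

section
variable {k : Type u} {A : Type v} [Field k] [CommRing A] [HopfAlgebra k A] (B : Subalgebra k A)

/-- `B ⊗ B → A ⊗ A`. -/
noncomputable def subIncl₂ : B ⊗[k] B →ₐ[k] A ⊗[k] A := Algebra.TensorProduct.map B.val B.val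

lemma subIncl₂_injective : Function.Injective (subIncl₂ B) :=
  TensorProduct.map_injective_of_flat_flat B.val.toLinearMap B.val.toLinearMap
    Subtype.val_injective Subtype.val_injective

lemma subIncl₃_injective : Function.Injective
    (Algebra.TensorProduct.map B.val (subIncl₂ B)) :=
  TensorProduct.map_injective_of_flat_flat B.val.toLinearMap (subIncl₂ B).toLinearMap
    Subtype.val_injective (subIncl₂_injective B)

variable (hΔ : ∀ b ∈ B, comul (R := k) b ∈ (subIncl₂ B).range)
  (hS : ∀ b ∈ B, HopfAlgebra.antipode k b ∈ B)

/-- The comultiplication of a sub-Hopf-algebra. -/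
noncomputable def subComul : B →ₐ[k] B ⊗[k] B :=
  (AlgEquiv.ofInjective _ (subIncl₂_injective B)).symm.toAlgHom.comp
    (((Bialgebra.comulAlgHom k A).comp B.val).codRestrict _ fun b => hΔ b b.2)

lemma subIncl₂_comp_subComul :
    (subIncl₂ B).comp (subComul B hΔ) = (Bialgebra.comulAlgHom k A).comp B.val := by
  ext b
  simp only [subComul, AlgHom.comp_apply, AlgEquiv.coe_toAlgHom]
  exact congr_arg Subtype.val
    ((AlgEquiv.ofInjective _ (subIncl₂_injective B)).apply_symm_apply _)

lemma subIncl₂_subComul (b : B) : subIncl₂ B (subComul B hΔ b) = comul (b : A) :=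
  congr($(subIncl₂_comp_subComul B hΔ) b)

/-- A sub-Hopf-algebra is a bialgebra. -/
noncomputable abbrev subBialgebra : Bialgebra k B :=
  .ofAlgHom (subComul B hΔ) ((Bialgebra.counitAlgHom k A).comp B.val)
    (by
      ext b
      apply subIncl₃_injective B
      simp only [AlgHom.comp_apply, AlgEquiv.coe_toAlgHom]
      have h₁ : ∀ t : B ⊗[k] B, Algebra.TensorProduct.map B.val (subIncl₂ B)
          (Algebra.TensorProduct.map (AlgHom.id k B) (subComul B hΔ) t) =
          comul.lTensor A (subIncl₂ B t) := by
        intro t
        induction t using TensorProduct.induction_on with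
        | zero => simp
        | tmul x y => simp [← subIncl₂_subComul B hΔ y, subIncl₂]
        | add x y hx hy => simp [hx, hy]
      have h₃ : ∀ (y : B) (u : B ⊗[k] B), Algebra.TensorProduct.map B.val (subIncl₂ B)
          (Algebra.TensorProduct.assoc k k k B B B (u ⊗ₜ y)) =
          TensorProduct.assoc k A A A (subIncl₂ B u ⊗ₜ (y : A)) := by
        intro y u
        induction u using TensorProduct.induction_on with
        | zero => simp
        | tmul x x' => simp [subIncl₂]
        | add x x' hx hx' => simp [add_tmul, hx, hx']
      have h₂ : ∀ t : B ⊗[k] B, Algebra.TensorProduct.map B.val (subIncl₂ B)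
          (Algebra.TensorProduct.assoc k k k B B B
            (Algebra.TensorProduct.map (subComul B hΔ) (AlgHom.id k B) t)) =
          TensorProduct.assoc k A A A (comul.rTensor A (subIncl₂ B t)) := by
        intro t
        induction t using TensorProduct.induction_on with
        | zero => simp
        | tmul x y =>
          rw [Algebra.TensorProduct.map_tmul, AlgHom.id_apply, h₃, subIncl₂_subComul]
          simp [subIncl₂]
        | add x y hx hy => simp [hx, hy]
      rw [h₂, h₁, subIncl₂_subComul, Coalgebra.coassoc_apply])
    (by
      ext b
      apply Algebra.TensorProduct.lid k B |>.injective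
      apply Subtype.val_injective
      have h : ∀ t : B ⊗[k] B, ((Algebra.TensorProduct.lid k B
          (Algebra.TensorProduct.map ((Bialgebra.counitAlgHom k A).comp B.val) (AlgHom.id k B) t) : B) : A) =
          TensorProduct.lid k A (counit.rTensor A (subIncl₂ B t)) := by
        intro t
        induction t using TensorProduct.induction_on with
        | zero => simp
        | tmul x y => simp [subIncl₂]
        | add x y hx hy => simp [hx, hy]
      simp only [AlgHom.comp_apply, AlgEquiv.coe_toAlgHom, AlgEquiv.apply_symm_apply]
      rw [h, subIncl₂_subComul, rTensor_counit_comul]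
      simp)
    (by
      ext b
      apply Algebra.TensorProduct.rid k k B |>.injective
      apply Subtype.val_injective
      have h : ∀ t : B ⊗[k] B, ((Algebra.TensorProduct.rid k k B
          (Algebra.TensorProduct.map (AlgHom.id k B) ((Bialgebra.counitAlgHom k A).comp B.val) t) : B) : A) =
          TensorProduct.rid k A (counit.lTensor A (subIncl₂ B t)) := by
        intro t
        induction t using TensorProduct.induction_on with
        | zero => simp
        | tmul x y => simp [subIncl₂]
        | add x y hx hy => simp [hx, hy]
      simp only [AlgHom.comp_apply, AlgEquiv.coe_toAlgHom, AlgEquiv.apply_symm_apply]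
      rw [h, subIncl₂_subComul, lTensor_counit_comul]
      simp)

/-- A sub-Hopf-algebra is a Hopf algebra. -/
@[implicit_reducible]
noncomputable def subHopf : HopfAlgebra k B :=
  letI := subBialgebra B hΔ
  HopfAlgebra.ofAlgHom
    (((HopfAlgebra.antipodeAlgHom k A).comp B.val).codRestrict B fun b => hS b b.2)
    (by
      ext b
      have h : ∀ t : B ⊗[k] B, ((Algebra.TensorProduct.lift
          (((HopfAlgebra.antipodeAlgHom k A).comp B.val).codRestrict B fun b => hS b b.2)
          (AlgHom.id k B) (fun _ _ ↦ Commute.all _ _) t : B) : A) =
          LinearMap.mul' k A ((HopfAlgebra.antipode k).rTensor A (subIncl₂ B t)) := by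
        intro t
        induction t using TensorProduct.induction_on with
        | zero => simp
        | tmul x y => simp [subIncl₂] <;> rfl
        | add x y hx hy => simp [hx, hy]
      refine (h _).trans ?_
      show LinearMap.mul' k A (_root_.LinearMap.rTensor A (HopfAlgebra.antipode k) (subIncl₂ B (subComul B hΔ b))) = _
      rw [subIncl₂_subComul, HopfAlgebra.mul_antipode_rTensor_comul_apply]
      rfl)
    (by
      ext b
      have h : ∀ t : B ⊗[k] B, ((Algebra.TensorProduct.lift (AlgHom.id k B)
          (((HopfAlgebra.antipodeAlgHom k A).comp B.val).codRestrict B fun b => hS b b.2)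
          (fun _ _ ↦ Commute.all _ _) t : B) : A) =
          LinearMap.mul' k A ((HopfAlgebra.antipode k).lTensor A (subIncl₂ B t)) := by
        intro t
        induction t using TensorProduct.induction_on with
        | zero => simp
        | tmul x y => simp [subIncl₂] <;> rfl
        | add x y hx hy => simp [hx, hy]
      refine (h _).trans ?_
      show LinearMap.mul' k A (_root_.LinearMap.lTensor A (HopfAlgebra.antipode k) (subIncl₂ B (subComul B hΔ b))) = _
      rw [subIncl₂_subComul, HopfAlgebra.mul_antipode_lTensor_comul_apply]
      rfl)

lemma subHopf_counit (b : B) :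
    letI := subHopf B hΔ hS
    counit (R := k) b = counit (R := k) (b : A) := rfl

end

end Groth.Agent.FinHopf
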