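import Groth.Agent.FinHopf.HeightOne
import Groth.Agent.FinHopf.Sub
import Mathlib.RingTheory.TensorProduct.Free
import Mathlib.Algebra.CharP.Algebra
import Mathlib.Algebra.CharP.Lemmas
import Mathlib.LinearAlgebra.Matrix.NonsingularInverse

/-!
# The dimension of an infinitesimal finite Hopf algebra is a power of the characteristic

`A` is free over the sub-Hopf-algebra `B` spanned by `p`-th powers, of rank the dimension of the
height one quotient `A / B⁺A`.
-/

universe u v w
open TensorProduct Coalgebra

namespace Groth.Agent.FinHopf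

variable {k : Type u} [Field k]

lemma charP_of_algHom {R : Type*} [CommRing R] [Algebra k R] (f : R →ₐ[k] k) (p : ℕ) [CharP k p] :
    CharP R p :=
  have := f.toRingHom.domain_nontrivial
  charP_of_injective_algebraMap (algebraMap k R).injective p

variable (p : ℕ) {A : Type v} [CommRing A] [HopfAlgebra k A]

/-- The ideal generated by the `p`-th powers of the augmentation ideal. -/
noncomputable def frobIdeal (k : Type u) [Field k] (A : Type v) [CommRing A] [HopfAlgebra k A]
    (p : ℕ) : Ideal A :=
  Ideal.span ((fun x => x ^ p) '' (aug k A : Set A))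

/-- The subalgebra generated by the `p`-th powers. -/
noncomputable def frobSub (k : Type u) [Field k] (A : Type v) [CommRing A] [HopfAlgebra k A]
    (p : ℕ) : Subalgebra k A :=
  Algebra.adjoin k (Set.range fun x : A => x ^ p)

lemma pow_mem_frobSub (x : A) : x ^ p ∈ frobSub k A p := Algebra.subset_adjoin ⟨x, rfl⟩

variable [hp : Fact p.Prime] [CharP k p]

lemma frobIdeal_le : frobIdeal k A p ≤ aug k A := by
  refine Ideal.span_le.mpr ?_
  rintro _ ⟨x, hx, rfl⟩
  exact Ideal.pow_mem_of_mem _ hx p hp.out.pos

lemma frobSub_antipode : ∀ b ∈ frobSub k A p, HopfAlgebra.antipode k b ∈ frobSub k A p := by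
  intro b hb
  have : (frobSub k A p).map (HopfAlgebra.antipodeAlgHom k A) ≤ frobSub k A p := by
    rw [frobSub, AlgHom.map_adjoin]
    refine Algebra.adjoin_mono ?_
    rintro _ ⟨_, ⟨x, rfl⟩, rfl⟩
    exact ⟨HopfAlgebra.antipodeAlgHom k A x, (map_pow _ _ _).symm⟩
  exact this ⟨b, hb, rfl⟩

lemma frobSub_comul : ∀ b ∈ frobSub k A p, comul (R := k) b ∈ (subIncl₂ (frobSub k A p)).range := by
  have := charP_of_algHom (Bialgebra.counitAlgHom k (A ⊗[k] A)) p
  have key : ∀ t : A ⊗[k] A, t ^ p ∈ (subIncl₂ (frobSub k A p)).range := by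
    intro t
    induction t using TensorProduct.induction_on with
    | zero => rw [zero_pow hp.out.ne_zero]; exact zero_mem _
    | tmul x y => exact ⟨⟨_, pow_mem_frobSub p x⟩ ⊗ₜ ⟨_, pow_mem_frobSub p y⟩, by
        simp [subIncl₂, Algebra.TensorProduct.tmul_pow]⟩
    | add x y hx hy => rw [add_pow_char]; exact add_mem hx hy
  have : frobSub k A p ≤ Subalgebra.comap (Bialgebra.comulAlgHom k A) (subIncl₂ (frobSub k A p)).range := by
    conv_lhs => rw [frobSub]
    refine Algebra.adjoin_le ?_
    rintro _ ⟨x, rfl⟩
    show Bialgebra.comulAlgHom k A (x ^ p) ∈ (subIncl₂ (frobSub k A p)).range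
    rw [map_pow]
    exact key _
  exact fun b hb => this hb

/-- The counit on the height one quotient, before it is known to be a Hopf algebra. -/
noncomputable def frobCounit : (A ⧸ frobIdeal k A p) →ₐ[k] k :=
  Ideal.Quotient.liftₐ _ (Bialgebra.counitAlgHom k A) fun _ ha => frobIdeal_le p ha

lemma frobCounit_mk (a : A) :
    frobCounit p (Ideal.Quotient.mk (frobIdeal k A p) a) = counit (R := k) a := rfl

lemma quot_pow_p (h : A ⧸ frobIdeal k A p) :
    h ^ p = algebraMap k _ (frobCounit p h ^ p) := by
  have := charP_of_algHom (Bialgebra.counitAlgHom k A) p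
  obtain ⟨a, rfl⟩ := Ideal.Quotient.mk_surjective h
  rw [← map_pow, frobCounit_mk, ← Ideal.Quotient.mk_algebraMap, map_pow (algebraMap k A),
    Ideal.Quotient.eq, ← sub_pow_char]
  exact Ideal.subset_span ⟨_, sub_counit_mem a, rfl⟩

lemma tensor_quot_pow_p {R : Type w} [CommRing R] [Algebra k R] (f : R →ₐ[k] k)
    (t : R ⊗[k] (A ⧸ frobIdeal k A p)) :
    t ^ p = ((Algebra.TensorProduct.rid k k R
      (Algebra.TensorProduct.map (AlgHom.id k R) (frobCounit p) t)) ^ p) ⊗ₜ[k] 1 := by
  have := charP_of_algHom ((Algebra.TensorProduct.lid k k).toAlgHom.comp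
    (Algebra.TensorProduct.map f (frobCounit (A := A) p))) p
  have := charP_of_algHom f p
  induction t using TensorProduct.induction_on with
  | zero => simp [zero_pow hp.out.ne_zero]
  | tmul r h =>
    simp only [Algebra.TensorProduct.tmul_pow, Algebra.TensorProduct.map_tmul, AlgHom.id_apply,
      Algebra.TensorProduct.rid_tmul, quot_pow_p, smul_pow]
    rw [Algebra.algebraMap_eq_smul_one, TensorProduct.tmul_smul, TensorProduct.smul_tmul']
  | add x y hx hy => rw [add_pow_char, hx, hy]; simp [add_pow_char, add_tmul]

instance frobIdeal_isHopfIdeal : (frobIdeal k A p).IsHopfIdeal k := by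
  have hcoideal : ((frobIdeal k A p).restrictScalars k).IsCoideal := by
    refine ⟨fun x hx => frobIdeal_le p hx, fun x hx => ?_⟩
    let ψ : A →ₐ[k] (A ⧸ frobIdeal k A p) ⊗[k] (A ⧸ frobIdeal k A p) :=
      (Algebra.TensorProduct.map (Ideal.Quotient.mkₐ k _) (Ideal.Quotient.mkₐ k _)).comp
        (Bialgebra.comulAlgHom k A)
    have hψ : frobIdeal k A p ≤ RingHom.ker ψ := by
      refine Ideal.span_le.mpr ?_
      rintro _ ⟨y, hy, rfl⟩
      show ψ (y ^ p) = 0
      rw [map_pow, tensor_quot_pow_p p (frobCounit p)]
      have : Algebra.TensorProduct.rid k k _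
          (Algebra.TensorProduct.map (AlgHom.id k _) (frobCounit p) (ψ y)) =
          Ideal.Quotient.mk (frobIdeal k A p) y := by
        have h : ∀ t : A ⊗[k] A, Algebra.TensorProduct.rid k k _
            (Algebra.TensorProduct.map (AlgHom.id k _) (frobCounit p)
              (Algebra.TensorProduct.map (Ideal.Quotient.mkₐ k (frobIdeal k A p))
                (Ideal.Quotient.mkₐ k (frobIdeal k A p)) t)) =
            Ideal.Quotient.mk _ (TensorProduct.rid k A (counit.lTensor A t)) := by
          intro t
          induction t using TensorProduct.induction_on with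
          | zero => simp
          | tmul a b =>
            simp only [Algebra.TensorProduct.map_tmul, AlgHom.id_apply, Algebra.TensorProduct.rid_tmul,
              LinearMap.lTensor_tmul, TensorProduct.rid_tmul, Ideal.Quotient.mkₐ_eq_mk, frobCounit_mk]
            exact (map_smul (Ideal.Quotient.mkₐ k (frobIdeal k A p)) _ _).symm
          | add a b ha hb => simp [ha, hb]
        refine (h _).trans ?_
        simp
      rw [this, ← map_pow, Ideal.Quotient.eq_zero_iff_mem.mpr
        (show y ^ p ∈ frobIdeal k A p from Ideal.subset_span ⟨y, hy, rfl⟩), TensorProduct.zero_tmul]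
    exact hψ hx
  refine { toIsCoideal := hcoideal, antipode_mem := ?_ }
  intro x hx
  exact (by
    have : frobIdeal k A p ≤ Ideal.comap (HopfAlgebra.antipodeAlgHom k A) (frobIdeal k A p) := by
      refine Ideal.span_le.mpr ?_
      rintro _ ⟨y, hy, rfl⟩
      show HopfAlgebra.antipodeAlgHom k A (y ^ p) ∈ frobIdeal k A p
      rw [map_pow]
      refine Ideal.subset_span ⟨_, ?_, rfl⟩
      show counit (R := k) (HopfAlgebra.antipode k y) = 0
      rw [HopfAlgebra.counit_antipode]; exact hy
    exact this hx)

variable [Module.Finite k A]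

lemma frobSub_ne_top (h : aug k A ≠ ⊥) (hA : IsInfinitesimal k A) : frobSub k A p ≠ ⊤ := by
  intro htop
  apply h
  let Q := A ⧸ frobIdeal k A p
  have hB : (frobSub k A p).map (Ideal.Quotient.mkₐ k (frobIdeal k A p)) ≤ ⊥ := by
    rw [frobSub, AlgHom.map_adjoin, Algebra.adjoin_le_iff]
    rintro _ ⟨_, ⟨x, rfl⟩, rfl⟩
    exact ⟨frobCounit p (Ideal.Quotient.mk (frobIdeal k A p) x) ^ p, by
      simpa using (quot_pow_p p (Ideal.Quotient.mk (frobIdeal k A p) x)).symm⟩
  have hI : aug k A ≤ frobIdeal k A p := fun x hx => by
    obtain ⟨c, hc⟩ := hB ⟨x, htop ▸ (Algebra.mem_top (R := k) (x := x)), rfl⟩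
    have hc' : Ideal.Quotient.mk (frobIdeal k A p) x = algebraMap k _ c := hc.symm
    have := congr(frobCounit p $hc')
    rw [frobCounit_mk, mem_aug.mp hx, AlgHom.commutes] at this
    rw [show c = 0 by simpa using this.symm, map_zero] at hc'
    exact Ideal.Quotient.eq_zero_iff_mem.mp hc'
  have h2 : aug k A ≤ aug k A ^ 2 := hI.trans (Ideal.span_le.mpr (by
    rintro _ ⟨x, hx, rfl⟩
    exact Ideal.pow_le_pow_right hp.out.two_le (Ideal.pow_mem_pow hx p)))
  have : ∀ n, aug k A ≤ aug k A ^ (n + 1) := by
    intro n
    induction n with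
    | zero => simp
    | succ n ih =>
      calc aug k A ≤ aug k A ^ 2 := h2
        _ ≤ aug k A ^ (n + 1) * aug k A := by rw [pow_two]; exact Ideal.mul_mono_left ih
        _ = _ := (pow_succ _ _).symm
  exact le_bot_iff.mp ((this _).trans ((Ideal.pow_le_pow_right (Nat.le_succ _)).trans
    (aug_pow_finrank hA).le))

lemma finrank_eq_mul (hA : IsInfinitesimal k A) :
    Module.finrank k A =
      Module.finrank k (frobSub k A p) * Module.finrank k (A ⧸ frobIdeal k A p) := by
  classical
  set B := frobSub k A p
  set J := frobIdeal k A p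
  let b := Module.finBasis k (A ⧸ J)
  choose a ha using fun i => Ideal.Quotient.mk_surjective (b i)
  let Λ : (Fin (Module.finrank k (A ⧸ J)) → B) →ₗ[k] A :=
    { toFun := fun c => ∑ i, (c i : A) * a i
      map_add' := fun c c' => by simp [add_mul, Finset.sum_add_distrib]
      map_smul' := fun r c => by simp [Finset.smul_sum] }
  -- spanning
  have hM : ∀ y, ∃ c, y - Λ c ∈ J := fun y => by
    refine ⟨fun i => algebraMap k B (b.repr (Ideal.Quotient.mk J y) i), ?_⟩
    rw [← Ideal.Quotient.eq]
    have h := (b.sum_repr (Ideal.Quotient.mk J y)).symm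
    simp only [Algebra.smul_def, ← ha, ← Ideal.Quotient.mk_algebraMap, ← map_mul, ← map_sum] at h
    exact h
  have hmulB : ∀ (β : A) (hβ : β ∈ B) c, β * Λ c = Λ (fun i => ⟨β, hβ⟩ * c i) := fun β hβ c => by
    simp [Λ, Finset.mul_sum, mul_assoc]
  let N : Ideal A → Submodule k A := fun K => LinearMap.range Λ ⊔ K.restrictScalars k
  have hN : ∀ n, N (J ^ n) = ⊤ := by
    intro n
    induction n with
    | zero => simp [N, Ideal.one_eq_top]
    | succ n ih =>
      rw [eq_top_iff, ← ih]
      refine sup_le le_sup_left ?_
      have hspan : J ^ n = Ideal.span {β | β ∈ B ∧ β ∈ J ^ n} := by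
        refine le_antisymm ?_ (Ideal.span_le.mpr fun β hβ => hβ.2)
        clear ih
        induction n with
        | zero =>
          rw [pow_zero, Ideal.one_eq_top, top_le_iff, Ideal.eq_top_iff_one]
          exact Ideal.subset_span ⟨one_mem _, trivial⟩
        | succ n ihn =>
          rw [pow_succ]
          refine (Ideal.mul_mono ihn (le_refl J)).trans ?_
          simp only [J, frobIdeal, Ideal.span_mul_span']
          refine Ideal.span_mono ?_
          rintro _ ⟨β, ⟨hβ, hβn⟩, _, ⟨x, hx, rfl⟩, rfl⟩
          exact ⟨mul_mem hβ (pow_mem_frobSub p x),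
            Ideal.mul_mem_mul hβn (Ideal.subset_span ⟨x, hx, rfl⟩)⟩
      intro y hy
      rw [Submodule.restrictScalars_mem, hspan] at hy
      suffices ∀ z, z * y ∈ N (J ^ (n + 1)) by simpa using this 1
      induction hy using Submodule.span_induction with
      | zero => simp
      | add u v _ _ hu hv => intro z; rw [mul_add]; exact add_mem (hu z) (hv z)
      | smul r u _ hu => intro z; rw [smul_eq_mul, ← mul_assoc]; exact hu _
      | mem β hβ =>
        intro z
        obtain ⟨c, hc⟩ := hM z
        have : z * β = β * Λ c + β * (z - Λ c) := by ring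
        rw [this]
        refine add_mem (Submodule.mem_sup_left ⟨_, (hmulB β hβ.1 c).symm⟩)
          (Submodule.mem_sup_right ?_)
        rw [Submodule.restrictScalars_mem, pow_succ]
        exact Ideal.mul_mem_mul hβ.2 hc
  have hsurj : Function.Surjective Λ := by
    rw [← LinearMap.range_eq_top]
    have h := hN (Module.finrank k A)
    have : J ^ Module.finrank k A = ⊥ :=
      le_bot_iff.mp ((Ideal.pow_right_mono (frobIdeal_le p) _).trans (aug_pow_finrank hA).le)
    simpa [N, this] using h
  -- independence
  let θ : A →ₐ[k] A ⊗[k] (A ⧸ J) :=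
    (Algebra.TensorProduct.map (AlgHom.id k A) (Ideal.Quotient.mkₐ k J)).comp
      (Bialgebra.comulAlgHom k A)
  have hθp : ∀ x : A, θ (x ^ p) = (x ^ p) ⊗ₜ 1 := by
    intro x
    rw [map_pow, tensor_quot_pow_p p (Bialgebra.counitAlgHom k A)]
    congr 2
    have h : ∀ t : A ⊗[k] A, Algebra.TensorProduct.rid k k A
        (Algebra.TensorProduct.map (AlgHom.id k A) (frobCounit p)
          (Algebra.TensorProduct.map (AlgHom.id k A) (Ideal.Quotient.mkₐ k J) t)) =
        TensorProduct.rid k A (counit.lTensor A t) := by
      intro t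
      induction t using TensorProduct.induction_on with
      | zero => simp
      | tmul u v => simp [J, frobCounit_mk]
      | add u v hu hv => simp [hu, hv]
    refine (h _).trans ?_
    simp
  have hθB : ∀ β : B, θ β = (β : A) ⊗ₜ 1 := by
    rintro ⟨β, hβ⟩
    have hle : B ≤ AlgHom.equalizer θ Algebra.TensorProduct.includeLeft := by
      refine Algebra.adjoin_le ?_
      rintro _ ⟨x, rfl⟩
      exact hθp x
    exact hle hβ
  let bA := Algebra.TensorProduct.basis A b
  let V : Matrix (Fin (Module.finrank k (A ⧸ J))) (Fin (Module.finrank k (A ⧸ J))) A :=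
    .of fun j i => bA.repr (θ (a j)) i
  have hV : IsUnit V.det := isUnit_of_counit_ne_zero hA (by
    have : (Bialgebra.counitAlgHom k A) V.det = 1 := by
      rw [AlgHom.map_det]
      have : (Bialgebra.counitAlgHom k A).mapMatrix V = 1 := by
        ext j i
        have h : ∀ t : A ⊗[k] A, counit (R := k)
            (bA.repr (Algebra.TensorProduct.map (AlgHom.id k A) (Ideal.Quotient.mkₐ k J) t) i) =
            b.repr (Ideal.Quotient.mk J (TensorProduct.lid k A (counit.rTensor A t))) i := by
          intro t
          induction t using TensorProduct.induction_on with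
          | zero => simp
          | tmul u v =>
            simp only [Algebra.TensorProduct.map_tmul, AlgHom.id_apply, Ideal.Quotient.mkₐ_eq_mk,
              bA, Algebra.TensorProduct.basis_repr_tmul, Finsupp.smul_apply, Finsupp.mapRange_apply,
              smul_eq_mul, Bialgebra.counit_mul, Bialgebra.counit_algebraMap,
              LinearMap.rTensor_tmul, TensorProduct.lid_tmul]
            rw [← Ideal.Quotient.mkₐ_eq_mk k, map_smul, map_smul, Finsupp.smul_apply, smul_eq_mul]
          | add u v hu hv => simp [hu, hv]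
        simp only [AlgHom.mapMatrix_apply, Matrix.map_apply, V, Matrix.of_apply, θ,
          AlgHom.comp_apply, Bialgebra.counitAlgHom_apply, Bialgebra.comulAlgHom_apply]
        rw [h, rTensor_counit_comul]
        simp [ha, Matrix.one_apply, Finsupp.single_apply]
      rw [this, Matrix.det_one]
    simpa using this ▸ one_ne_zero (α := k))
  have hinj : Function.Injective Λ := by
    rw [injective_iff_map_eq_zero]
    intro c hc
    have h0 : Matrix.vecMul (fun j => (c j : A)) V = 0 := by
      funext i
      have := congr(bA.repr (θ $hc) i)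
      simp only [Λ, LinearMap.coe_mk, AddHom.coe_mk, map_sum, map_mul, map_zero, hθB,
        Finsupp.zero_apply] at this
      rw [Finsupp.finsetSum_apply] at this
      refine Eq.trans ?_ this
      simp only [Matrix.vecMul, dotProduct]
      refine Finset.sum_congr rfl fun j _ => ?_
      show (c j : A) * bA.repr (θ (a j)) i = _
      have e : ((c j : A) ⊗ₜ[k] (1 : A ⧸ J)) * θ (a j) = (c j : A) • θ (a j) := by
        generalize θ (a j) = t
        induction t using TensorProduct.induction_on with
        | zero => simp
        | tmul u v => simp [TensorProduct.smul_tmul']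
        | add u v hu hv => rw [mul_add, smul_add, hu, hv]
      rw [e, map_smul, Finsupp.smul_apply, smul_eq_mul]
    funext j
    have hj := congr(Matrix.vecMul $h0 V⁻¹ j)
    rw [Matrix.vecMul_vecMul, Matrix.mul_nonsing_inv V hV, Matrix.vecMul_one, Matrix.zero_vecMul] at hj
    exact Subtype.ext hj
  rw [← (LinearEquiv.ofBijective Λ ⟨hinj, hsurj⟩).finrank_eq, Module.finrank_pi_fintype,
    Finset.sum_const, Finset.card_univ, Fintype.card_fin, smul_eq_mul, mul_comm]

theorem exists_finrank_eq_pow (hA : IsInfinitesimal k A) :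
    ∃ d, Module.finrank k A = p ^ d := by
  suffices ∀ n, ∀ (C : Type v) [CommRing C] [HopfAlgebra k C] [Module.Finite k C],
      IsInfinitesimal k C → Module.finrank k C = n → ∃ d, n = p ^ d from this _ A hA rfl
  intro n
  induction n using Nat.strong_induction_on with
  | _ n ih =>
    intro C _ _ _ hC hn
    by_cases haug : aug k C = ⊥
    · refine ⟨0, ?_⟩
      have hb : Function.Bijective (algebraMap k C) := by
        have := nontrivial_of_hopf k C
        refine ⟨(algebraMap k C).injective, fun x => ⟨counit (R := k) x, ?_⟩⟩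
        have := (haug ▸ sub_counit_mem (k := k) x : x - algebraMap k C (counit (R := k) x) ∈ (⊥ : Ideal C))
        exact (sub_eq_zero.mp this).symm
      rw [pow_zero, ← hn, ← (LinearEquiv.ofBijective (Algebra.linearMap k C) hb).finrank_eq,
        Module.finrank_self]
    · have hlt : Module.finrank k (frobSub k C p) < n := by
        rw [← hn]
        exact Submodule.finrank_lt (s := Subalgebra.toSubmodule (frobSub k C p))
          (fun h => frobSub_ne_top p haug hC (Subalgebra.toSubmodule.injective (h.trans Algebra.top_toSubmodule.symm)))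
      letI := subHopf (frobSub k C p) (frobSub_comul p) (frobSub_antipode p)
      have hB : IsInfinitesimal k (frobSub k C p) := fun x hx => by
        obtain ⟨m, hm⟩ := hC (x : C) hx
        exact ⟨m, Subtype.ext hm⟩
      obtain ⟨d₁, hd₁⟩ := ih _ hlt (frobSub k C p) hB rfl
      obtain ⟨d₂, hd₂⟩ := exists_finrank_eq_pow_of_heightOne (k := k) (A := C ⧸ frobIdeal k C p) p
        (fun x hx => by
          rw [quot_pow_p, show frobCounit p x = 0 from hx]
          simp [zero_pow hp.out.ne_zero])
      exact ⟨d₁ + d₂, by rw [← hn, finrank_eq_mul p hC, hd₁, hd₂, pow_add]⟩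

end Groth.Agent.FinHopf
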