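import Mathlib.RingTheory.HopfAlgebra.Convolution
import Mathlib.RingTheory.Unramified.Basic

/-!
# Unramified commutative Hopf algebras and the augmentation ideal
-/

universe u v

namespace Groth.Agent.FinHopf

variable (R : Type u) [CommRing R] (A : Type v) [CommRing A]

theorem aug_sq_eq_of_formallyUnramified [Bialgebra R A] [Algebra.FormallyUnramified R A] :
    RingHom.ker (Bialgebra.counitAlgHom R A) ^ 2 = RingHom.ker (Bialgebra.counitAlgHom R A) := by
  refine le_antisymm (Ideal.pow_le_self two_ne_zero) fun x hx => ?_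
  let I := RingHom.ker (Bialgebra.counitAlgHom R A)
  let J : Ideal (A ⧸ I ^ 2) := I.map (Ideal.Quotient.mk (I ^ 2))
  have hJ : J ^ 2 = ⊥ := by rw [← Ideal.map_pow, Ideal.map_quotient_self]
  have h : Ideal.Quotient.mkₐ R (I ^ 2) =
      (Algebra.ofId R (A ⧸ I ^ 2)).comp (Bialgebra.counitAlgHom R A) := by
    refine Algebra.FormallyUnramified.comp_injective J hJ (AlgHom.ext fun a => ?_)
    refine Ideal.Quotient.eq.mpr ?_
    have : a - algebraMap R A (Bialgebra.counitAlgHom R A a) ∈ I := by
      simp [I, RingHom.mem_ker, Bialgebra.counit_algebraMap]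
    have := Ideal.mem_map_of_mem (Ideal.Quotient.mk (I ^ 2)) this
    rwa [map_sub] at this
  have := congr($h x)
  rw [AlgHom.comp_apply, RingHom.mem_ker.mp hx, map_zero] at this
  exact Ideal.Quotient.eq_zero_iff_mem.mp this

/-- Composition with an algebra map as a map of monoids of points. -/
noncomputable def pushPoints [Bialgebra R A] {B C : Type*} [CommRing B] [Algebra R B] [CommRing C]
    [Algebra R C] (h : B →ₐ[R] C) :
    WithConv (A →ₐ[R] B) →* WithConv (A →ₐ[R] C) where
  toFun φ := WithConv.toConv (h.comp φ.ofConv)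
  map_one' := by
    refine WithConv.ext (AlgHom.ext fun a => ?_)
    simp [AlgHom.convOne_def]
  map_mul' φ ψ := by
    refine WithConv.ext ?_
    simp [AlgHom.comp_convMul_distrib]

theorem formallyUnramified_of_aug_sq_eq [HopfAlgebra R A]
    (h : RingHom.ker (Bialgebra.counitAlgHom R A) ^ 2 = RingHom.ker (Bialgebra.counitAlgHom R A)) :
    Algebra.FormallyUnramified R A := by
  rw [Algebra.FormallyUnramified.iff_comp_injective_of_small.{v}]
  intro B _ _ J hJ f g hfg
  let F := WithConv.toConv f
  let G := WithConv.toConv g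
  let G' := pushPoints R A g (WithConv.toConv (AlgHom.id R A))⁻¹
  have hG : G = pushPoints R A g (WithConv.toConv (AlgHom.id R A)) := rfl
  have hGG' : G * G' = 1 := by rw [hG, ← map_mul, mul_inv_cancel, map_one]
  have hG'G : G' * G = 1 := by rw [hG, ← map_mul, inv_mul_cancel, map_one]
  let d : A →ₐ[R] B := (F * G').ofConv
  have hd : pushPoints R A (Ideal.Quotient.mkₐ R J) (F * G') = 1 := by
    rw [map_mul, show pushPoints R A (Ideal.Quotient.mkₐ R J) F =
      pushPoints R A (Ideal.Quotient.mkₐ R J) G from congrArg WithConv.toConv hfg, ← map_mul, hGG',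
      map_one]
  have hker : ∀ x ∈ RingHom.ker (Bialgebra.counitAlgHom R A), d x ∈ J := fun x hx => by
    rw [← Ideal.Quotient.eq_zero_iff_mem]
    have := congr(($hd).ofConv x)
    simp only [AlgHom.convOne_def, WithConv.ofConv_toConv, AlgHom.comp_apply,
      RingHom.mem_ker.mp hx, map_zero] at this
    exact this
  have h1 : F * G' = 1 := by
    refine WithConv.ext (AlgHom.ext fun a => ?_)
    have hmem : a - algebraMap R A (Bialgebra.counitAlgHom R A a) ∈
        RingHom.ker (Bialgebra.counitAlgHom R A) ^ 2 := by
      rw [h]; simp [RingHom.mem_ker, Bialgebra.counit_algebraMap]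
    have : d (a - algebraMap R A (Bialgebra.counitAlgHom R A a)) = 0 := by
      rw [← Submodule.mem_bot (R := B), ← hJ]
      rw [pow_two] at hmem
      revert hmem
      generalize a - algebraMap R A (Bialgebra.counitAlgHom R A a) = z
      intro hz
      refine Submodule.mul_induction_on (C := fun z => d z ∈ J ^ 2) hz (fun x hx y hy => ?_)
        fun x y hx hy => ?_
      · show d (x * y) ∈ J ^ 2
        rw [map_mul, pow_two]
        exact Ideal.mul_mem_mul (hker x hx) (hker y hy)
      · show d (x + y) ∈ J ^ 2
        rw [map_add]; exact add_mem hx hy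
    rw [map_sub, AlgHom.commutes, sub_eq_zero] at this
    exact this.trans rfl
  have : F = G := by rw [← mul_one F, ← hG'G, ← mul_assoc, h1, one_mul]
  exact WithConv.toConv_injective this

end Groth.Agent.FinHopf
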