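import Mathlib.RingTheory.Ideal.Cotangent
import Mathlib.RingTheory.HopfAlgebra.Quotient
import Mathlib.RingTheory.HopfAlgebra.TensorProduct
import Mathlib.Algebra.MvPolynomial.PDeriv
import Mathlib.RingTheory.Artinian.Ring
import Mathlib.LinearAlgebra.Matrix.NonsingularInverse
import Mathlib.LinearAlgebra.Basis.VectorSpace
import Mathlib.LinearAlgebra.Dimension.Free
import Mathlib.RingTheory.Derivation.Basic
import Mathlib.RingTheory.Nilpotent.Basic
import Mathlib.LinearAlgebra.FiniteDimensional.Lemmas
import Mathlib.LinearAlgebra.Dimension.Constructions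

/-!
# Infinitesimal finite Hopf algebras: invariant derivations and the height one case

A finite commutative Hopf algebra all of whose augmentation elements are nilpotent and killed by
the `p`-th power has dimension a power of `p`.
-/

universe u v w
open TensorProduct Coalgebra

namespace Groth.Agent.FinHopf

variable (k : Type u) [Field k] (A : Type v) [CommRing A] [HopfAlgebra k A]

/-- The augmentation ideal. -/
noncomputable abbrev aug : Ideal A := RingHom.ker (Bialgebra.counitAlgHom k A)

/-- All elements of the augmentation ideal are nilpotent. -/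
def IsInfinitesimal : Prop := ∀ x ∈ aug k A, IsNilpotent x

variable {k A}

lemma mem_aug {x : A} : x ∈ aug k A ↔ counit (R := k) x = 0 := Iff.rfl

lemma sub_counit_mem (x : A) : x - algebraMap k A (counit (R := k) x) ∈ aug k A := by
  simp [Bialgebra.counit_algebraMap]

lemma nontrivial_of_hopf (k : Type u) (A : Type v) [Field k] [CommRing A] [HopfAlgebra k A] : Nontrivial A :=
  (Bialgebra.counitAlgHom k A).toRingHom.domain_nontrivial

lemma isUnit_of_counit_ne_zero (hA : IsInfinitesimal k A) {x : A} (hx : counit (R := k) x ≠ 0) :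
    IsUnit x := by
  rw [← sub_add_cancel x (algebraMap k A (counit (R := k) x))]
  exact IsNilpotent.isUnit_add_right_of_commute (hA _ (sub_counit_mem x))
    ((Ne.isUnit hx).map _) (Commute.all _ _)

lemma aug_le_jacobson (hA : IsInfinitesimal k A) : aug k A ≤ nilradical A := fun x hx => hA x hx

/-- Invariant derivation attached to a linear form. -/
noncomputable def invDer (δ : A →ₗ[k] k)
    (hδ : ∀ a b : A, δ (a * b) = counit (R := k) a * δ b + counit (R := k) b * δ a) :
    Derivation k A A :=
  Derivation.mk' ((TensorProduct.rid k A).toLinearMap ∘ₗ δ.lTensor A ∘ₗ comul) fun a b => by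
    let F : A ⊗[k] A →ₗ[k] A := (TensorProduct.rid k A).toLinearMap ∘ₗ δ.lTensor A
    let ψ : A ⊗[k] A →ₗ[k] A :=
      (TensorProduct.rid k A).toLinearMap ∘ₗ (counit (R := k) (A := A)).lTensor A
    have key : ∀ s t : A ⊗[k] A, F (s * t) = ψ s * F t + ψ t * F s := by
      intro s t
      induction s using TensorProduct.induction_on with
      | zero => simp
      | add s s' hs hs' => simp only [add_mul, map_add, hs, hs']; ring
      | tmul x y =>
        induction t using TensorProduct.induction_on with
        | zero => simp
        | add t t' ht ht' => simp only [mul_add, map_add, ht, ht']; ring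
        | tmul x' y' =>
          simp only [F, ψ, LinearMap.coe_comp, LinearEquiv.coe_coe, Function.comp_apply,
            Algebra.TensorProduct.tmul_mul_tmul, LinearMap.lTensor_tmul, TensorProduct.rid_tmul,
            Algebra.smul_def, hδ, map_add, map_mul]
          ring
    have hψ : ∀ a : A, ψ (comul a) = a := fun a => by
      simp [ψ, lTensor_counit_comul]
    show F (comul (a * b)) = a • F (comul b) + b • F (comul a)
    rw [Bialgebra.comul_mul, key, hψ, hψ, smul_eq_mul, smul_eq_mul]

lemma counit_invDer (δ : A →ₗ[k] k) (hδ) (a : A) :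
    counit (R := k) (invDer δ hδ a) = δ a := by
  have key : ∀ t : A ⊗[k] A, counit (R := k) (TensorProduct.rid k A (δ.lTensor A t)) =
      δ (TensorProduct.lid k A (counit.rTensor A t)) := by
    intro t
    induction t using TensorProduct.induction_on with
    | zero => simp
    | add s s' hs hs' => simp [hs, hs']
    | tmul x y => simp [mul_comm]
  show counit (R := k) (TensorProduct.rid k A (δ.lTensor A (comul a))) = _
  rw [key, rTensor_counit_comul]
  simp

variable [Module.Finite k A]

lemma aug_pow_finrank (hA : IsInfinitesimal k A) : (aug k A) ^ Module.finrank k A = ⊥ := by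
  have : IsArtinianRing A := isArtinian_of_tower k inferInstance
  obtain ⟨n, hn⟩ : IsNilpotent (aug k A) := by
    obtain ⟨n, hn⟩ := IsArtinianRing.isNilpotent_nilradical (R := A)
    exact ⟨n, le_bot_iff.mp ((Ideal.pow_right_mono (aug_le_jacobson hA) n).trans hn.le)⟩
  have key : ∀ i, (aug k A) ^ i = ⊥ ∨
      Module.finrank k ((aug k A ^ i).restrictScalars k) + i ≤ Module.finrank k A := by
    intro i
    induction i with
    | zero => exact .inr (by simpa using Submodule.finrank_le ((aug k A ^ 0).restrictScalars k))
    | succ i ih =>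
      rcases ih with h | h
      · exact .inl (by rw [pow_succ, h, Ideal.bot_mul])
      · by_cases he : aug k A ^ (i + 1) = aug k A ^ i
        · left
          rw [he]
          have : ∀ j, aug k A ^ (i + j) = aug k A ^ i := by
            intro j
            induction j with
            | zero => simp
            | succ j hj => rw [← add_assoc, pow_succ, hj, ← pow_succ, he]
          rw [← this n, pow_add, hn, Ideal.zero_eq_bot, Ideal.mul_bot]
        · right
          have hlt : (aug k A ^ (i + 1)).restrictScalars k < (aug k A ^ i).restrictScalars k :=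
            lt_of_le_of_ne (Ideal.pow_le_pow_right (Nat.le_succ i))
              (fun hh => he (Submodule.restrictScalars_injective k A A hh))
          have := Submodule.finrank_lt_finrank_of_lt hlt
          omega
  rcases key (Module.finrank k A) with h | h
  · exact h
  · have : Module.finrank k ((aug k A ^ Module.finrank k A).restrictScalars k) = 0 := by omega
    rw [Submodule.finrank_eq_zero] at this
    exact (Submodule.restrictScalars_eq_bot_iff ..).mp this

/-- Elements of the augmentation ideal modulo its square, and dual derivations. -/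
lemma exists_coords (hA : IsInfinitesimal k A) :
    ∃ (d : ℕ) (x : Fin d → A) (D : Fin d → Derivation k A A),
      (∀ i, x i ∈ aug k A) ∧ (∀ i j, D i (x j) = if i = j then 1 else 0) ∧
      ∀ y ∈ aug k A, ∃ c : Fin d → k, y - ∑ i, c i • x i ∈ (aug k A) ^ 2 := by
  classical
  let I2 : Submodule k A := (aug k A ^ 2).restrictScalars k
  let V : Submodule k (A ⧸ I2) := ((aug k A).restrictScalars k).map I2.mkQ
  let b := Module.finBasis k V
  have hlift : ∀ i, ∃ a ∈ aug k A, I2.mkQ a = (b i : A ⧸ I2) := fun i =>
    Submodule.mem_map.mp (b i).2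
  choose x hx hxb using hlift
  choose e he using fun i => (b.coord i).exists_extend
  have hker : ∀ (i) (y : A), y ∈ aug k A ^ 2 → e i (I2.mkQ y) = 0 := fun i y hy => by
    rw [Submodule.mkQ_apply, (Submodule.Quotient.mk_eq_zero I2).mpr hy, map_zero]
  let δ : Fin (Module.finrank k V) → A →ₗ[k] k := fun i =>
    e i ∘ₗ I2.mkQ ∘ₗ
      (LinearMap.id - (Algebra.linearMap k A) ∘ₗ (counit (R := k) (A := A)))
  have hδ : ∀ i a c, δ i (a * c) =
      counit (R := k) a * δ i c + counit (R := k) c * δ i a := by
    intro i a c
    show e i (I2.mkQ (a * c - algebraMap k A (counit (R := k) (a * c)))) =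
      counit (R := k) a * e i (I2.mkQ (c - algebraMap k A (counit (R := k) c))) +
      counit (R := k) c * e i (I2.mkQ (a - algebraMap k A (counit (R := k) a)))
    rw [← smul_eq_mul (counit (R := k) a), ← smul_eq_mul (counit (R := k) c), ← map_smul, ← map_smul, ← map_smul,
      ← map_smul, ← map_add, ← map_add, ← sub_eq_zero, ← map_sub, ← map_sub]
    refine hker i _ ?_
    have : a * c - algebraMap k A (counit (R := k) (a * c)) -
        (counit (R := k) a • (c - algebraMap k A (counit (R := k) c)) +
          counit (R := k) c • (a - algebraMap k A (counit (R := k) a))) =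
        (a - algebraMap k A (counit (R := k) a)) * (c - algebraMap k A (counit (R := k) c)) := by
      simp only [Algebra.smul_def, Bialgebra.counit_mul, map_mul]; ring
    rw [this, pow_two]
    exact Ideal.mul_mem_mul (sub_counit_mem a) (sub_counit_mem c)
  have hδx : ∀ i j, δ i (x j) = if i = j then 1 else 0 := fun i j => by
    show e i (I2.mkQ (x j - algebraMap k A (counit (R := k) (x j)))) = _
    rw [mem_aug.mp (hx j), map_zero, sub_zero, hxb]
    exact ((congr($(he i) (b j))).trans (by simp [Finsupp.single_apply, eq_comm]))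
  let D₀ i := invDer (δ i) (hδ i)
  let M : Matrix (Fin (Module.finrank k V)) (Fin (Module.finrank k V)) A :=
    .of fun i j => D₀ i (x j)
  have hM : IsUnit M.det := isUnit_of_counit_ne_zero hA (by
    have : (Bialgebra.counitAlgHom k A) M.det = 1 := by
      rw [AlgHom.map_det]
      have : (Bialgebra.counitAlgHom k A).mapMatrix M = 1 := by
        ext i j
        simp [M, D₀, counit_invDer, hδx, Matrix.one_apply]
      rw [this, Matrix.det_one]
    simpa using this ▸ one_ne_zero (α := k))
  refine ⟨_, x, fun j => ∑ i, M⁻¹ j i • D₀ i, hx, fun j l => ?_, fun y hy => ?_⟩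
  · rw [← Derivation.coeFnAddMonoidHom_apply, map_sum]
    have := congr($(Matrix.nonsing_inv_mul M hM) j l)
    simpa [Matrix.mul_apply, M, Matrix.one_apply, Finset.sum_apply, Derivation.coeFnAddMonoidHom] using this
  · refine ⟨fun i => b.repr ⟨I2.mkQ y, Submodule.mem_map_of_mem hy⟩ i, ?_⟩
    refine (Submodule.Quotient.eq I2).mp ?_
    rw [← Submodule.mkQ_apply, ← Submodule.mkQ_apply, map_sum]
    simp only [map_smul, hxb]
    have h := congr_arg Subtype.val (b.sum_repr ⟨I2.mkQ y, Submodule.mem_map_of_mem hy⟩)
    simp only [AddSubmonoidClass.coe_finset_sum, Submodule.coe_smul] at h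
    exact h.symm

/-- In a finite infinitesimal Hopf algebra of characteristic zero there is no augmentation. -/
lemma aug_eq_bot_of_charZero [CharZero k] (hA : IsInfinitesimal k A) : aug k A = ⊥ := by
  obtain ⟨d, x, D, hx, hD, hgen⟩ := exists_coords hA
  have := nontrivial_of_hopf k A
  rcases Nat.eq_zero_or_pos d with rfl | hd
  · have h2 : aug k A ≤ aug k A ^ 2 := fun y hy => by
      obtain ⟨c, hc⟩ := hgen y hy
      simpa using hc
    have : ∀ n, aug k A ≤ aug k A ^ (n + 1) := by
      intro n
      induction n with
      | zero => simp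
      | succ n ih =>
        calc aug k A ≤ aug k A ^ 2 := h2
          _ ≤ aug k A ^ (n + 1) * aug k A := by rw [pow_two]; exact Ideal.mul_mono_left ih
          _ = _ := (pow_succ _ _).symm
    exact le_bot_iff.mp ((this _).trans ((Ideal.pow_le_pow_right (Nat.le_succ _)).trans
      (aug_pow_finrank hA).le))
  · exfalso
    let i : Fin d := ⟨0, hd⟩
    obtain ⟨n, hn⟩ := hA _ (hx i)
    induction n with
    | zero => simp at hn
    | succ n ih =>
      apply ih
      have h := congr(D i $hn)
      rw [Derivation.leibniz_pow, hD] at h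
      have hu : IsUnit ((n : A) + 1) := by
        simpa using (Ne.isUnit (Nat.cast_add_one_ne_zero (R := k) n)).map (algebraMap k A)
      simpa [hu.mul_right_eq_zero] using h

/-- Height one: the dimension is a power of the characteristic. -/
lemma exists_coords_finrank_eq_pow (p : ℕ) [hp : Fact p.Prime] [CharP k p]
    (h1 : ∀ x ∈ aug k A, x ^ p = 0) :
    ∃ (d : ℕ) (x : Fin d → A) (D : Fin d → Derivation k A A),
      (∀ i, x i ∈ aug k A) ∧ (∀ i j, D i (x j) = if i = j then 1 else 0) ∧
      (∀ y ∈ aug k A, ∃ c : Fin d → k, y - ∑ i, c i • x i ∈ (aug k A) ^ 2) ∧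
      Module.finrank k A = p ^ d := by
  classical
  have hA : IsInfinitesimal k A := fun x hx => ⟨p, h1 x hx⟩
  have hpA : 0 < p := hp.out.pos
  obtain ⟨d, x, D, hx, hD, hgen⟩ := exists_coords hA
  refine ⟨d, x, D, hx, hD, hgen, ?_⟩
  let Φ : MvPolynomial (Fin d) k →ₐ[k] A := MvPolynomial.aeval x
  -- derivations act as partial derivatives
  have hDΦ : ∀ j f, D j (Φ f) = Φ (MvPolynomial.pderiv j f) := by
    intro j f
    induction f using MvPolynomial.induction_on with
    | C a => simp [Φ]
    | add f g hf hg => simp [hf, hg]
    | mul_X f i hf =>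
      rw [map_mul, Derivation.leibniz, hf, Derivation.leibniz, smul_eq_mul, smul_eq_mul, map_add]
      simp [Φ, hD, MvPolynomial.pderiv_X, Pi.single_apply, eq_comm, apply_ite]
  -- low monomials are independent
  have hindep : ∀ n (f : MvPolynomial (Fin d) k), Φ f = 0 → ∀ α : Fin d →₀ ℕ,
      (∀ i, α i < p) → ∑ i, α i = n → f.coeff α = 0 := by
    intro n
    induction n with
    | zero =>
      intro f hf α _ hα
      obtain rfl : α = 0 := by
        ext i; exact Finset.sum_eq_zero_iff.mp hα i (Finset.mem_univ _)
      have := congr(counit (R := k) $hf)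
      rw [map_zero] at this
      rw [← MvPolynomial.constantCoeff_eq, ← this]
      have hcc : (Bialgebra.counitAlgHom k A).comp Φ = MvPolynomial.aeval (0 : Fin d → k) := by
        refine MvPolynomial.algHom_ext fun i => ?_
        simp [Φ, mem_aug.mp (hx i)]
      rw [show counit (R := k) (Φ f) = (Bialgebra.counitAlgHom k A).comp Φ f from rfl, hcc,
        MvPolynomial.aeval_zero]
      simp
    | succ n ih =>
      intro f hf α hlt hα
      obtain ⟨j, hj⟩ : ∃ j, α j ≠ 0 := by
        by_contra! h
        simp [h] at hα
      have hle : Finsupp.single j 1 ≤ α := by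
        rw [Finsupp.single_le_iff]; omega
      have hsum : ∑ i, (α - Finsupp.single j 1 : Fin d →₀ ℕ) i + 1 = ∑ i, α i := by
        conv_rhs => rw [← tsub_add_cancel_of_le hle]
        simp [Finset.sum_add_distrib]
      have h := ih (MvPolynomial.pderiv j f) (by rw [← hDΦ, hf, map_zero]) (α - Finsupp.single j 1)
        (fun i => lt_of_le_of_lt (by simp) (hlt i)) (by omega)
      rw [MvPolynomial.coeff_pderiv, tsub_add_cancel_of_le hle] at h
      refine (mul_eq_zero.mp h).resolve_right ?_
      have hh : (α - Finsupp.single j 1 : Fin d →₀ ℕ) j + 1 = α j := by simp; omega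
      rw [← Nat.cast_add_one, hh, CharP.cast_eq_zero_iff k p]
      exact fun hdvd => hj (Nat.eq_zero_of_dvd_of_lt hdvd (hlt j))
  -- and they span
  have hpow : ∀ n, ∀ y ∈ aug k A ^ n, ∃ f, y - Φ f ∈ aug k A ^ (n + 1) := by
    intro n
    induction n with
    | zero =>
      intro y _
      exact ⟨MvPolynomial.C (counit (R := k) y), by simpa [Φ] using sub_counit_mem y⟩
    | succ n ih =>
      intro y hy
      rw [pow_succ] at hy
      refine Submodule.mul_induction_on hy ?_ ?_
      rotate_left
      · intro y z hy hz
        obtain ⟨f, hf⟩ := hy; obtain ⟨g, hg⟩ := hz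
        exact ⟨f + g, by rw [map_add, add_sub_add_comm]; exact add_mem hf hg⟩
      · intro a ha b hb
        obtain ⟨f, hf⟩ := ih a ha
        obtain ⟨c, hc⟩ := hgen b hb
        refine ⟨f * ∑ i, c i • MvPolynomial.X i, ?_⟩
        have hg : Φ (∑ i, c i • MvPolynomial.X i) = ∑ i, c i • x i := by simp [Φ]
        rw [map_mul, hg, show a * b - Φ f * ∑ i, c i • x i =
          (a - Φ f) * b + Φ f * (b - ∑ i, c i • x i) by ring]
        refine add_mem ?_ ?_
        · rw [pow_succ]; exact Ideal.mul_mem_mul hf hb
        · have hΦ : Φ f ∈ aug k A ^ n := by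
            have := sub_mem ha (Ideal.pow_le_pow_right (Nat.le_succ n) hf)
            simpa using this
          rw [show n + 1 + 1 = n + 2 from rfl, pow_add]
          exact Ideal.mul_mem_mul hΦ hc
  have hsurj : Function.Surjective Φ := by
    suffices ∀ m y, y ∈ aug k A ^ (Module.finrank k A - m) → ∃ f, Φ f = y from fun y =>
      this (Module.finrank k A) y (by simp)
    intro m
    induction m with
    | zero => intro y hy; rw [Nat.sub_zero, aug_pow_finrank hA] at hy; exact ⟨0, by simp_all⟩
    | succ m ih =>
      intro y hy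
      obtain ⟨f, hf⟩ := hpow _ y hy
      obtain ⟨g, hg⟩ := ih (y - Φ f) (Ideal.pow_le_pow_right (by omega) hf)
      exact ⟨f + g, by simp [hg]⟩
  let L : ((Fin d → Fin p) → k) →ₗ[k] A :=
    { toFun := fun c => Φ (∑ α, MvPolynomial.monomial
        (Finsupp.equivFunOnFinite.symm fun i => (α i : ℕ)) (c α))
      map_add' := fun c c' => by simp [Finset.sum_add_distrib]
      map_smul' := fun a c => by
        simp only [Pi.smul_apply, ← MvPolynomial.smul_monomial, ← Finset.smul_sum, map_smul, RingHom.id_apply] }
  have hcoeff : ∀ (c : (Fin d → Fin p) → k) (β : Fin d → Fin p),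
      (∑ α, MvPolynomial.monomial (Finsupp.equivFunOnFinite.symm fun i => (α i : ℕ)) (c α)).coeff
        (Finsupp.equivFunOnFinite.symm fun i => (β i : ℕ)) = c β := by
    intro c β
    rw [MvPolynomial.coeff_sum, Finset.sum_eq_single β]
    · simp
    · intro α _ hα
      rw [MvPolynomial.coeff_monomial, if_neg fun h => hα (funext fun i => Fin.ext (DFunLike.congr_fun h i))]
    · simp
  have hLi : Function.Injective L := by
    rw [injective_iff_map_eq_zero]
    intro c hc
    funext β
    rw [← hcoeff c β]
    exact hindep _ _ hc _ (fun i => (β i).2) rfl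
  have hLs : Function.Surjective L := by
    rw [← LinearMap.range_eq_top, Submodule.eq_top_iff']
    intro y
    obtain ⟨f, rfl⟩ := hsurj y
    induction f using MvPolynomial.induction_on' with
    | add f g hf hg => rw [map_add]; exact add_mem hf hg
    | monomial α a =>
      by_cases h : ∀ i, α i < p
      · refine ⟨Pi.single (fun i => ⟨α i, h i⟩) a, ?_⟩
        show Φ _ = _
        congr 1
        rw [Finset.sum_eq_single (fun i => ⟨α i, h i⟩)]
        · rw [Pi.single_eq_same]
          congr 2
          ext i; simp
        · intro β _ hβ; simp [Pi.single_eq_of_ne hβ]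
        · simp
      · push Not at h
        obtain ⟨i, hi⟩ := h
        have : Φ (MvPolynomial.monomial α a) = 0 := by
          rw [MvPolynomial.aeval_monomial, Finsupp.prod,
            Finset.prod_eq_zero (i := i) (by simp; omega)
              (by rw [← Nat.sub_add_cancel hi, pow_add, h1 _ (hx i), mul_zero]), mul_zero]
        rw [this]; exact zero_mem _
  rw [← (LinearEquiv.ofBijective L ⟨hLi, hLs⟩).finrank_eq, Module.finrank_pi]
  simp

lemma exists_finrank_eq_pow_of_heightOne (p : ℕ) [Fact p.Prime] [CharP k p]
    (h1 : ∀ x ∈ aug k A, x ^ p = 0) : ∃ d, Module.finrank k A = p ^ d :=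
  let ⟨d, _, _, _, _, _, h⟩ := exists_coords_finrank_eq_pow p h1
  ⟨d, h⟩

/-- The number of coordinates is the dimension of the cotangent space at the origin. -/
lemma finrank_cotangent_eq {d : ℕ} {x : Fin d → A} {D : Fin d → Derivation k A A}
    (hx : ∀ i, x i ∈ aug k A) (hD : ∀ i j, D i (x j) = if i = j then 1 else 0)
    (hgen : ∀ y ∈ aug k A, ∃ c : Fin d → k, y - ∑ i, c i • x i ∈ (aug k A) ^ 2) :
    Module.finrank k (Ideal.Cotangent (aug k A)) = d := by
  let f : (Fin d → k) →ₗ[k] (Ideal.Cotangent (aug k A)) :=
    Fintype.linearCombination k (fun i => Ideal.toCotangent (aug k A) ⟨x i, hx i⟩)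
  have hf : ∀ c : Fin d → k, f c = Ideal.toCotangent (aug k A)
      ⟨∑ i, c i • x i, sum_mem fun i _ => Submodule.smul_of_tower_mem _ _ (hx i)⟩ := by
    intro c
    rw [show f c = ∑ i, c i • Ideal.toCotangent (aug k A) ⟨x i, hx i⟩ from rfl]
    simp only [← LinearMap.map_smul_of_tower, ← map_sum]
    exact congr_arg _ (Subtype.ext (by simp))
  have hbij : Function.Bijective f := by
    refine ⟨(injective_iff_map_eq_zero f).mpr fun c hc => funext fun j => ?_, fun z => ?_⟩
    · rw [hf, Ideal.toCotangent_eq_zero] at hc
      have h0 : D j (∑ i, c i • x i) ∈ aug k A := by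
        rw [pow_two] at hc
        refine Submodule.mul_induction_on (C := fun z => D j z ∈ aug k A) hc (fun a ha b hb => ?_)
          fun a b ha hb => ?_
        · show D j (a * b) ∈ aug k A
          rw [Derivation.leibniz, smul_eq_mul, smul_eq_mul]
          exact add_mem (Ideal.mul_mem_right _ _ ha) (Ideal.mul_mem_right _ _ hb)
        · show D j (a + b) ∈ aug k A
          rw [map_add]; exact add_mem ha hb
      simpa [mem_aug, hD, Finset.sum_ite_eq] using h0
    · obtain ⟨⟨y, hy⟩, rfl⟩ := Ideal.toCotangent_surjective _ z
      obtain ⟨c, hc⟩ := hgen y hy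
      refine ⟨c, ?_⟩
      rw [hf, Ideal.toCotangent_eq]
      simpa using neg_mem hc
  rw [← (LinearEquiv.ofBijective f hbij).finrank_eq, Module.finrank_fin_fun]

end Groth.Agent.FinHopf
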