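import Mathlib.RingTheory.Smooth.Fiber
import Mathlib.RingTheory.LocalRing.Module
import Mathlib.RingTheory.LocalRing.ResidueField.Fiber
import Mathlib.RingTheory.Kaehler.TensorProduct
import Mathlib.RingTheory.Support
import Mathlib.AlgebraicGeometry.Morphisms.Etale
import Mathlib.AlgebraicGeometry.Morphisms.SmoothFiber

/-!
# The fibre criterion for étale morphisms
-/

universe u
open TensorProduct CategoryTheory CategoryTheory.Limits AlgebraicGeometry

namespace Groth.Agent.FinHopf

lemma formallyUnramified_of_fiber {R S : Type u} [CommRing R] [CommRing S] [Algebra R S]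
    [Algebra.FiniteType R S]
    (H : ∀ (p : Ideal R) [p.IsPrime], Algebra.FormallyUnramified p.ResidueField (p.Fiber S)) :
    Algebra.FormallyUnramified R S := by
  constructor
  have : Module.Finite S Ω[S⁄R] := inferInstance
  rw [← Module.support_eq_empty_iff (R := S), Set.eq_empty_iff_forall_notMem]
  intro q hq
  rw [Module.mem_support_iff_nontrivial_residueField_tensorProduct] at hq
  let p := q.asIdeal.under R
  have := H p
  let : Algebra S (p.ResidueField ⊗[R] S) := Algebra.TensorProduct.rightAlgebra
  have : Subsingleton (p.ResidueField ⊗[R] Ω[S⁄R]) :=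
    (KaehlerDifferential.tensorKaehlerEquivBase R p.ResidueField S (p.ResidueField ⊗[R] S)).subsingleton
  refine not_nontrivial_iff_subsingleton.mpr ?_ hq
  have key : ∀ ω : Ω[S⁄R], (1 : q.asIdeal.ResidueField) ⊗ₜ[S] ω = 0 := by
    intro ω
    let : Algebra p.ResidueField q.asIdeal.ResidueField :=
      (Ideal.ResidueField.map p q.asIdeal (algebraMap R S) rfl).toAlgebra
    have : IsScalarTower R p.ResidueField q.asIdeal.ResidueField := .of_algebraMap_eq fun r => by
      simp [RingHom.algebraMap_toAlgebra, ← IsScalarTower.algebraMap_apply]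
    have := congr(TensorProduct.mapOfCompatibleSMul S R R q.asIdeal.ResidueField Ω[S⁄R]
      (TensorProduct.map (IsScalarTower.toAlgHom R p.ResidueField q.asIdeal.ResidueField).toLinearMap
        LinearMap.id $(Subsingleton.elim ((1 : p.ResidueField) ⊗ₜ[R] ω) 0)))
    simpa using this
  refine subsingleton_of_forall_eq 0 fun x => ?_
  induction x using TensorProduct.induction_on with
  | zero => rfl
  | tmul a ω =>
    rw [← mul_one a, ← smul_eq_mul, ← TensorProduct.smul_tmul', key, smul_zero]
  | add x y hx hy => rw [hx, hy, add_zero]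

set_option backward.isDefEq.respectTransparency false in
/-- A flat morphism locally of finite presentation with étale fibres is étale. -/
lemma etale_of_etale_fiber {X Y : Scheme.{u}} (f : X ⟶ Y) [LocallyOfFinitePresentation f] [Flat f]
    (h : ∀ y, Etale (f.fiberToSpecResidueField y)) : Etale f := by
  wlog hY : ∃ R, Y = Spec R
  · rw [IsZariskiLocalAtTarget.iff_of_openCover (P := @Etale) Y.affineCover]
    intro i
    dsimp [Scheme.Cover.pullbackHom]
    refine this _ (fun y ↦ ?_) ⟨_, rfl⟩
    apply MorphismProperty.of_isPullback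
    · exact isPullback_fiberToSpecResidueField_of_isPullback (IsPullback.of_hasPullback _ _) _
    · exact h _
  obtain ⟨R, rfl⟩ := hY
  wlog hX : ∃ S, X = Spec S generalizing f X
  · rw [IsZariskiLocalAtSource.iff_of_openCover (P := @Etale) X.affineCover]
    intro i
    refine this _ (fun y ↦ ?_) ⟨_, rfl⟩
    have : Etale (pullback.snd f ((Spec R).fromSpecResidueField y)) := h y
    rw [Scheme.Hom.fiberToSpecResidueField, ← pullbackRightPullbackFstIso_inv_snd_snd]
    infer_instance
  obtain ⟨S, rfl⟩ := hX
  obtain ⟨φ, rfl⟩ := Spec.map_surjective f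
  simp only [HasRingHomProperty.Spec_iff] at *
  algebraize [φ.hom]
  have : Algebra.FormallyUnramified R S := by
    refine formallyUnramified_of_fiber fun p hp => ?_
    have : Etale ((Spec.map (CommRingCat.ofHom (algebraMap R S))).fiberToSpecResidueField ⟨p, hp⟩) :=
      h ⟨p, hp⟩
    rw [MorphismProperty.arrow_mk_iso_iff (P := @Etale)
      (Spec.fiberToSpecResidueFieldIso R S ⟨p, hp⟩), HasRingHomProperty.Spec_iff (P := @Etale),
      CommRingCat.hom_ofHom, RingHom.etale_algebraMap] at this
    infer_instance
  show (algebraMap R S).Etale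
  rw [RingHom.etale_algebraMap]
  exact .of_formallyUnramified_of_flat

end Groth.Agent.FinHopf
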