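import Groth.Agent.FinHopf.Power
import Groth.Agent.FinHopf.Unramified
import Mathlib.AlgebraicGeometry.Group.Affine
import Mathlib.AlgebraicGeometry.Morphisms.FlatRank
import Mathlib.CategoryTheory.Monoidal.Cartesian.Over

/-!
# Finite group schemes of invertible order are étale
-/

universe u
open CategoryTheory CategoryTheory.Limits MonoidalCategory AlgebraicGeometry

namespace Groth.Agent.FinHopf

/-- A finite group scheme over a field whose rank is invertible is étale. -/
lemma etale_of_finite_over_field {k : Type u} [Field k] {X : Scheme.{u}}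
    (f : X ⟶ Spec (.of k)) [GrpObj (Over.mk f)] [IsFinite f]
    (x : Spec (.of k)) (h : (f.finrank x : k) ≠ 0) : Etale f := by
  have : IsAffine X := isAffine_of_isAffineHom f
  let : X.Over (Spec (.of k)) := ⟨f⟩
  let : GrpObj (X.asOver (Spec (.of k))) := ‹GrpObj (Over.mk f)›
  let : HopfAlgebra k Γ(X, ⊤) := @instHopfAlgebraCarrierObjOppositeOpensCarrierCarrierCommRingCatPresheafOpOpensTopOfGrpObjOverSchemeSpecAsOverOfIsAffine (CommRingCat.of k) X _ _ _
  have hf : f = X.isoSpec.hom ≫ Spec.map (CommRingCat.ofHom (algebraMap k Γ(X, ⊤))) := by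
    have h1 : CommRingCat.ofHom (algebraMap k Γ(X, ⊤)) =
        (Spec.fullyFaithful.preimage (X.isoSpec.inv ≫ f)).unop := rfl
    rw [h1]
    exact ((congrArg (X.isoSpec.hom ≫ ·) (Spec.fullyFaithful.map_preimage (X.isoSpec.inv ≫ f))).trans
      (Iso.hom_inv_id_assoc _ _)).symm
  have : IsFinite (Spec.map (CommRingCat.ofHom (algebraMap k Γ(X, ⊤)))) := by
    rw [← MorphismProperty.cancel_left_of_respectsIso @IsFinite X.isoSpec.hom, ← hf]; infer_instance
  have : Module.Finite k Γ(X, ⊤) := by
    rw [IsFinite.SpecMap_iff] at this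
    exact RingHom.finite_algebraMap.mp this
  rw [hf, MorphismProperty.cancel_left_of_respectsIso @Etale, HasRingHomProperty.Spec_iff (P := @Etale),
    CommRingCat.hom_ofHom, RingHom.etale_algebraMap]
  refine etale_of_finrank_ne_zero k _ ?_
  have hr : f.finrank x = Module.rankAtStalk (R := k) Γ(X, ⊤) x := by
    have : Flat (Spec.map (CommRingCat.ofHom (algebraMap k Γ(X, ⊤)))) := by
      rw [Flat.SpecMap_iff]
      exact RingHom.flat_algebraMap_iff.mpr inferInstance
    rw [congr_arg (fun g => Scheme.Hom.finrank g x) hf, Scheme.Hom.finrank_comp_left_of_isIso,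
      Scheme.Hom.finrank_SpecMap_algebraMap]
  rwa [hr, Module.rankAtStalk_eq_finrank_of_free] at h

end Groth.Agent.FinHopf
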